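import Cfsg.Agent.Lib.SpEight.Block

/-!
# The unipotent blocks `J₂`, `J₄`, `J₆` in characteristic two, on both types of forms
-/

set_option autoImplicit false
set_option linter.unusedSectionVars false
set_option linter.unusedVariables false
set_option linter.unusedSimpArgs false

namespace Cfsg.Agent.Lib.SpEight

open Module QuadraticMap

universe u

variable {F : Type u} [Field F] [Fintype F]

/-- The form `c u² + u v + e v²`. -/
noncomputable def bq (c e : F) : QuadraticForm F (F × F) :=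
  c • linMulLin (LinearMap.fst F F F) (LinearMap.fst F F F) + linMulLin (LinearMap.fst F F F) (LinearMap.snd F F F) +
    e • linMulLin (LinearMap.snd F F F) (LinearMap.snd F F F)

@[simp] theorem bq_apply (c e : F) (v : F × F) : bq c e v = c * (v.1 * v.1) + v.1 * v.2 + e * (v.2 * v.2) := by
  simp [bq, linMulLin_apply]

/-- Parameters: either `r = 0`, or `r` makes the forms anisotropic. -/
def Ani (r : F) : Prop := ∀ w : F, w * w + w + r * r ≠ 0

/-- The form of a parameter. -/
def SgD (r : F) (D : ℤ) : Prop := (r = 0 ∧ D = (Fintype.card F : ℤ)) ∨ (Ani r ∧ D = -(Fintype.card F : ℤ))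

variable [CharP F 2]

theorem two_F' : (2 : F) = 0 := by
  have := CharP.cast_eq_zero F 2
  simpa using this

theorem exists_ani : ∃ r : F, Ani r := by
  have hni : ¬ Function.Injective (fun w : F => w * w + w) := by
    intro h
    have h1 : (fun w : F => w * w + w) 1 = (fun w : F => w * w + w) 0 := by
      simp only [mul_one, mul_zero, add_zero]
      linear_combination (two_F' : (2 : F) = 0)
    exact one_ne_zero (h h1)
  have hns : ¬ Function.Surjective (fun w : F => w * w + w) := fun h => hni (Finite.injective_iff_surjective.2 h)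
  simp only [Function.Surjective, not_forall, not_exists] at hns
  obtain ⟨ζ, hζ⟩ := hns
  obtain ⟨r, hr⟩ := exists_sq ζ
  refine ⟨r, fun w h => hζ w ?_⟩
  rw [hr] at h
  linear_combination h - ζ * (two_F' : (2 : F) = 0)

theorem polar_bq (c e : F) (v w : F × F) : polar (bq c e) v w = v.1 * w.2 + w.1 * v.2 := by
  simp only [polar, bq_apply, Prod.fst_add, Prod.snd_add]
  linear_combination (c * (v.1 * w.1) + e * (v.2 * w.2)) * (two_F' : (2 : F) = 0)

theorem nd_bq (c e : F) : ∀ x, (∀ y, polar (bq c e) x y = 0) → x = 0 := by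
  intro x hx
  have h1 := hx (0, 1)
  have h2 := hx (1, 0)
  simp only [polar_bq] at h1 h2
  apply Prod.ext
  · simpa using h1
  · simpa using h2

theorem hasD_bq00 : HasD (⇑(bq (0 : F) 0)) (Fintype.card F : ℤ) := by
  refine HasD.of_equiv (Equiv.refl _) (fun v => ?_) (hasD_hyp (L := F))
  simp

theorem hasD_bq10 : HasD (⇑(bq (1 : F) 0)) (Fintype.card F : ℤ) := by
  let e : F × F ≃ F × F :=
    { toFun := fun v => (v.1, v.1 + v.2)
      invFun := fun v => (v.1, v.1 + v.2)
      left_inv := fun v => by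
        apply Prod.ext
        · rfl
        · simp only
          linear_combination v.1 * (two_F' : (2 : F) = 0)
      right_inv := fun v => by
        apply Prod.ext
        · rfl
        · simp only
          linear_combination v.1 * (two_F' : (2 : F) = 0) }
  refine HasD.of_equiv e (fun v => ?_) (hasD_hyp (L := F))
  simp only [bq_apply, e, Equiv.coe_fn_mk]
  linear_combination v.1 * v.1 * (two_F' : (2 : F) = 0)

theorem card_FF : Fintype.card (F × F) = Fintype.card F ^ 2 := by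
  rw [Fintype.card_prod, pow_two]

theorem hasD_bq1 {r : F} {D : ℤ} (h : SgD r D) : HasD (⇑(bq (1 : F) (r * r))) D := by
  rcases h with ⟨rfl, rfl⟩ | ⟨h, rfl⟩
  · simpa using hasD_bq10 (F := F)
  · refine hasD_aniso (fun v => ⟨fun hv => ?_, fun hv => by simp [hv]⟩) card_FF
    simp only [bq_apply] at hv
    by_cases hv2 : v.2 = 0
    · apply Prod.ext
      · rw [hv2] at hv
        simpa using hv
      · exact hv2
    · exfalso
      apply h (v.1 / v.2)
      field_simp
      linear_combination hv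

theorem hasD_bqr {r : F} {D : ℤ} (h : SgD r D) : HasD (⇑(bq r r)) D := by
  rcases h with ⟨rfl, rfl⟩ | ⟨h, rfl⟩
  · exact hasD_bq00
  · have hr : r ≠ 0 := by
      rintro rfl
      apply h 0
      simp
    refine hasD_aniso (fun v => ⟨fun hv => ?_, fun hv => by simp [hv]⟩) card_FF
    simp only [bq_apply] at hv
    by_cases hv2 : v.2 = 0
    · apply Prod.ext
      · rw [hv2] at hv
        simpa [hr] using hv
      · exact hv2
    · exfalso
      apply h (r * v.1 / v.2)
      field_simp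
      linear_combination r * hv

theorem sm_bq (c e r : F) (v : F × F) : (bq c e) (r • v) = r * r * (bq c e) v := by
  rw [QuadraticMap.map_smul, smul_eq_mul]

/-- The data of a quadratic space. -/
structure QB {V : Type*} [AddCommGroup V] [Module F V] [Fintype V] (Q : QuadraticForm F V) (d : ℕ) (D : ℤ) : Prop where
  dim : finrank F V = 2 * d
  nd : ∀ x, (∀ y, polar Q x y = 0) → x = 0
  hD : HasD (⇑Q) D

theorem qb_bq1 {r : F} {D : ℤ} (h : SgD r D) : QB (bq (1 : F) (r * r)) 1 D :=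
  ⟨by simp, nd_bq _ _, hasD_bq1 h⟩

theorem qb_bqr {r : F} {D : ℤ} (h : SgD r D) : QB (bq r r) 1 D :=
  ⟨by simp, nd_bq _ _, hasD_bqr h⟩

theorem qb_hyp : QB (bq (0 : F) 0) 1 (Fintype.card F : ℤ) :=
  ⟨by simp, nd_bq _ _, hasD_bq00⟩

theorem QB.prod {V₁ V₂ : Type*} [AddCommGroup V₁] [Module F V₁] [Fintype V₁] [AddCommGroup V₂] [Module F V₂] [Fintype V₂]
    {Q₁ : QuadraticForm F V₁} {Q₂ : QuadraticForm F V₂} {d₁ d₂ : ℕ} {D₁ D₂ : ℤ} (h₁ : QB Q₁ d₁ D₁) (h₂ : QB Q₂ d₂ D₂) :
    QB (Q₁.prod Q₂) (d₁ + d₂) (D₁ * D₂) where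
  dim := by
    have hfin1 : FiniteDimensional F V₁ := Module.Finite.of_finite
    have hfin2 : FiniteDimensional F V₂ := Module.Finite.of_finite
    rw [Module.finrank_prod, h₁.dim, h₂.dim]
    ring
  nd := by
    rintro ⟨x₁, x₂⟩ hx
    have h1 : x₁ = 0 := by
      apply h₁.nd
      intro y
      have := hx (y, 0)
      simpa [polar, QuadraticMap.prod_apply] using this
    have h2 : x₂ = 0 := by
      apply h₂.nd
      intro y
      have := hx (0, y)
      simpa [polar, QuadraticMap.prod_apply] using this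
    rw [h1, h2]
    rfl
  hD := by
    have hQ₁ : ∀ (r : F) v, Q₁ (r • v) = r * r * Q₁ v := fun r v => by
      rw [QuadraticMap.map_smul, smul_eq_mul]
    have hQ₂ : ∀ (r : F) v, Q₂ (r • v) = r * r * Q₂ v := fun r v => by
      rw [QuadraticMap.map_smul, smul_eq_mul]
    exact HasD.sum hQ₁ hQ₂ h₁.hD h₂.hD

/-- Orders of `2`-power. -/
theorem ord_two_pow {V : Type*} [AddCommGroup V] [Module F V] {T : Module.End F V} {k : ℕ} (h1 : T ^ (2 ^ (k + 1)) = 1)
    (h2 : T ^ (2 ^ k) ≠ 1) (t : ℕ) : T ^ t = 1 ↔ 2 ^ (k + 1) ∣ t := by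
  haveI : Fact (Nat.Prime 2) := ⟨Nat.prime_two⟩
  rw [← orderOf_eq_prime_pow h2 h1, orderOf_dvd_iff_pow_eq_one]

/-- The identity on a binary space. -/
theorem at_id {r : F} {D : ℤ} (h : SgD r D) : Real F 1 D 1 0 True := by
  have hq := qb_bq1 h
  refine AB.real (Q := bq (1 : F) (r * r)) (T := 1) ⟨hq.dim, hq.nd, hq.hD, fun v => rfl, Nat.one_pos, fun t => ?_, ?_, ?_⟩
  · simp
  · have : fixS (1 : Module.End F (F × F)) = ⊤ := by
      ext v
      simp [mem_fixS]
    rw [this, finrank_top]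
    simp
  · intro _
    refine ⟨(1, 0), ?_⟩
    simp

/-- The involution on a binary space. -/
noncomputable def tJ2 : Module.End F (F × F) where
  toFun w := (w.1 + w.2, w.2)
  map_add' x y := by
    apply Prod.ext
    · simp only [Prod.fst_add, Prod.snd_add]
      ring
    · rfl
  map_smul' c x := by
    apply Prod.ext
    · simp only [Prod.smul_fst, Prod.smul_snd, smul_eq_mul, RingHom.id_apply]
      ring
    · rfl

@[simp] theorem tJ2_apply (w : F × F) : tJ2 w = (w.1 + w.2, w.2) := rfl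

theorem at_J2 {r : F} {D : ℤ} (h : SgD r D) : Real F 1 D 2 1 True := by
  have hq := qb_bq1 h
  have htwo : (2 : F) = 0 := two_F'
  have hsq : ∀ w : F × F, tJ2 (tJ2 w) = w := by
    intro w
    apply Prod.ext
    · simp only [tJ2_apply]
      linear_combination w.2 * htwo
    · rfl
  have h1 : (tJ2 : Module.End F (F × F)) ^ (2 ^ (0 + 1)) = 1 := by
    apply LinearMap.ext
    intro w
    rw [show 2 ^ (0 + 1) = 2 from rfl, pow_two, Module.End.mul_apply, hsq]
    rfl
  have h2 : (tJ2 : Module.End F (F × F)) ^ (2 ^ 0) ≠ 1 := by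
    intro e
    have := congrArg (fun S : Module.End F (F × F) => (S (0, 1)).1) e
    simp at this
  have hfix : fixS (tJ2 : Module.End F (F × F)) = Submodule.span F {((1 : F), (0 : F))} := by
    ext v
    rw [mem_fixS, Submodule.mem_span_singleton]
    constructor
    · intro e
      have h3 : v.2 = 0 := by
        have := congrArg Prod.fst e
        simpa using this
      refine ⟨v.1, ?_⟩
      apply Prod.ext
      · simp
      · simp [h3]
    · rintro ⟨c, rfl⟩
      simp
  refine AB.real (Q := bq (1 : F) (r * r)) (T := tJ2)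
    ⟨hq.dim, hq.nd, hq.hD, fun v => ?_, by norm_num, ord_two_pow h1 h2, ?_, ?_⟩
  · simp only [bq_apply, tJ2_apply]
    linear_combination (v.1 * v.2 + v.2 * v.2) * htwo
  · rw [hfix, finrank_span_singleton (by simp)]
  · intro _
    refine ⟨(0, 1), ?_⟩
    intro e
    have := congrArg Prod.fst e
    simp [Finset.sum_range_succ] at this

/-- The element of order four. -/
noncomputable def tJ4 (r : F) : Module.End F ((F × F) × (F × F)) where
  toFun w := ((w.2.1 + r * (w.1.1 + w.1.2), w.2.1 + w.2.2 + r * (w.1.1 + w.1.2)), (w.1.2 + r * w.2.2, w.1.1 + w.1.2))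
  map_add' x y := by
    simp only [Prod.fst_add, Prod.snd_add, Prod.mk_add_mk, Prod.mk.injEq]
    refine ⟨⟨?_, ?_⟩, ?_, ?_⟩ <;> ring
  map_smul' c x := by
    simp only [Prod.smul_fst, Prod.smul_snd, smul_eq_mul, RingHom.id_apply, Prod.smul_mk, Prod.mk.injEq]
    refine ⟨⟨?_, ?_⟩, ?_, ?_⟩ <;> ring

@[simp] theorem tJ4_apply (r : F) (w : (F × F) × (F × F)) :
    tJ4 r w = ((w.2.1 + r * (w.1.1 + w.1.2), w.2.1 + w.2.2 + r * (w.1.1 + w.1.2)), (w.1.2 + r * w.2.2, w.1.1 + w.1.2)) := rfl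

theorem tJ4_sq (r : F) (w : (F × F) × (F × F)) :
    tJ4 r (tJ4 r w) = ((w.1.2, w.1.1), (w.2.1 + w.2.2, w.2.2)) := by
  have htwo : (2 : F) = 0 := two_F'
  simp only [tJ4_apply, Prod.mk.injEq]
  refine ⟨⟨?_, ?_⟩, ?_, ?_⟩
  · linear_combination (r * w.2.2 + r * w.2.1 + r * r * (w.1.1 + w.1.2)) * htwo
  · linear_combination (r * w.2.2 + r * w.2.1 + r * r * (w.1.1 + w.1.2) + w.1.2) * htwo
  · linear_combination (r * w.1.1 + r * w.1.2) * htwo
  · linear_combination (r * w.1.1 + r * w.1.2 + w.2.1) * htwo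

theorem at_J4 {r : F} {D : ℤ} (h : SgD r D) : Real F 2 ((Fintype.card F : ℤ) * D) 4 1 True := by
  have hq := (qb_hyp (F := F)).prod (qb_bq1 h)
  have htwo : (2 : F) = 0 := two_F'
  have h4 : ∀ w, (tJ4 r) ((tJ4 r) ((tJ4 r) ((tJ4 r) w))) = w := by
    intro w
    rw [tJ4_sq, tJ4_sq]
    apply Prod.ext
    · rfl
    · apply Prod.ext
      · simp only
        linear_combination w.2.2 * htwo
      · rfl
  have h1 : (tJ4 r) ^ (2 ^ (1 + 1)) = 1 := by
    apply LinearMap.ext
    intro w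
    have : ((tJ4 r) ^ (2 ^ (1 + 1))) w = (tJ4 r) ((tJ4 r) ((tJ4 r) ((tJ4 r) w))) := by
      simp [pow_succ]
    rw [this, h4]
    rfl
  have h2 : (tJ4 r) ^ (2 ^ 1) ≠ 1 := by
    intro e
    have h3 := congrArg (fun S : Module.End F ((F × F) × (F × F)) => (S ((1, 0), (0, 0))).1.1) e
    have h5 : ((tJ4 r) ^ (2 ^ 1)) ((1, 0), (0, 0)) = (tJ4 r) ((tJ4 r) ((1, 0), (0, 0))) := by
      simp [pow_succ]
    simp only [h5, tJ4_sq] at h3
    simp at h3
  have hfix : fixS (tJ4 r) = Submodule.span F {(((1 : F), (1 : F)), ((1 : F), (0 : F)))} := by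
    ext v
    rw [mem_fixS, Submodule.mem_span_singleton]
    obtain ⟨⟨x, y⟩, ⟨u, t⟩⟩ := v
    constructor
    · intro e
      simp only [tJ4_apply, Prod.mk.injEq] at e
      obtain ⟨⟨e1, e2⟩, e3, e4⟩ := e
      have h3 : t = x + y := e4.symm
      have h5 : y = x := by
        subst h3
        linear_combination e1 + e3 - r * (x + y) * htwo
      have h6 : t = 0 := by
        rw [h3, h5]
        linear_combination x * htwo
      have h7 : u = x := by
        rw [← e3, h6, h5]
        ring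
      refine ⟨x, ?_⟩
      simp [h5, h6, h7]
    · rintro ⟨c, hc⟩
      simp only [Prod.smul_mk, smul_eq_mul, mul_one, mul_zero, Prod.mk.injEq] at hc
      obtain ⟨⟨rfl, rfl⟩, rfl, rfl⟩ := hc
      simp only [tJ4_apply, Prod.mk.injEq]
      refine ⟨⟨?_, ?_⟩, ?_, ?_⟩
      · linear_combination (r * c) * htwo
      · linear_combination (r * c) * htwo
      · ring
      · linear_combination c * htwo
  refine AB.real (Q := (bq (0 : F) 0).prod (bq (1 : F) (r * r))) (T := tJ4 r)
    ⟨hq.dim, hq.nd, hq.hD, fun v => ?_, by norm_num, ?_, ?_, ?_⟩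
  · simp only [QuadraticMap.prod_apply, bq_apply, tJ4_apply]
    obtain ⟨⟨x, y⟩, ⟨u, t⟩⟩ := v
    simp only
    linear_combination (u * r * (x + y) + r * r * ((x + y) * (x + y)) + r * (x + y) * t + y * y + y * r * t) * htwo
  · intro t
    have := ord_two_pow h1 h2 t
    simpa using this
  · rw [hfix, finrank_span_singleton (by simp)]
  · intro _
    refine ⟨((1, 0), (0, 0)), ?_⟩
    intro e
    have h3 := congrArg (fun w : (F × F) × (F × F) => w.1.1) e
    simp only [Finset.sum_range_succ, Finset.sum_range_zero, zero_add, pow_zero, pow_one, pow_succ, Module.End.mul_apply,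
      Module.End.one_apply, mul_one, one_mul] at h3
    simp only [tJ4_apply, Prod.fst_add, Prod.snd_add, Prod.fst_zero] at h3
    have h5 : (1 : F) = 0 := by
      linear_combination h3 - (2 * r + r * r + 2 * r * r * r) * htwo
    exact one_ne_zero h5

/-- The element of order eight. -/
noncomputable def tJ6 (r : F) : Module.End F ((F × F) × (F × F) × (F × F)) where
  toFun w := ((w.2.1.2, w.2.1.1 + w.2.2.2 + r * w.2.1.2), (w.1.2, w.1.1), (w.2.2.2, w.2.2.1 + w.2.1.2))
  map_add' x y := by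
    refine Prod.ext (Prod.ext ?_ ?_) (Prod.ext (Prod.ext ?_ ?_) (Prod.ext ?_ ?_)) <;>
      simp only [Prod.fst_add, Prod.snd_add] <;> ring
  map_smul' c x := by
    refine Prod.ext (Prod.ext ?_ ?_) (Prod.ext (Prod.ext ?_ ?_) (Prod.ext ?_ ?_)) <;>
      simp only [Prod.smul_fst, Prod.smul_snd, smul_eq_mul, RingHom.id_apply] <;> ring

@[simp] theorem tJ6_apply (r : F) (w : (F × F) × (F × F) × (F × F)) :
    tJ6 r w = ((w.2.1.2, w.2.1.1 + w.2.2.2 + r * w.2.1.2), (w.1.2, w.1.1), (w.2.2.2, w.2.2.1 + w.2.1.2)) := rfl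

theorem tJ6_sq (r : F) (w : (F × F) × (F × F) × (F × F)) :
    tJ6 r (tJ6 r w) = ((w.1.1, w.1.2 + w.2.1.2 + w.2.2.1 + r * w.1.1), (w.2.1.1 + w.2.2.2 + r * w.2.1.2, w.2.1.2),
      (w.2.2.1 + w.2.1.2, w.2.2.2 + w.1.1)) := by
  refine Prod.ext (Prod.ext ?_ ?_) (Prod.ext (Prod.ext ?_ ?_) (Prod.ext ?_ ?_)) <;> simp only [tJ6_apply] <;> ring

theorem tJ6_four (r : F) (w : (F × F) × (F × F) × (F × F)) :
    tJ6 r (tJ6 r (tJ6 r (tJ6 r w))) = ((w.1.1, w.1.2 + w.2.1.2), (w.2.1.1 + w.1.1, w.2.1.2), (w.2.2.1, w.2.2.2)) := by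
  have htwo : (2 : F) = 0 := two_F'
  rw [tJ6_sq, tJ6_sq]
  refine Prod.ext (Prod.ext ?_ ?_) (Prod.ext (Prod.ext ?_ ?_) (Prod.ext ?_ ?_))
  · rfl
  · dsimp only
    linear_combination (w.2.2.1 + r * w.1.1 + w.2.1.2) * htwo
  · dsimp only
    linear_combination (w.2.2.2 + r * w.2.1.2) * htwo
  · rfl
  · dsimp only
    linear_combination w.2.1.2 * htwo
  · dsimp only
    linear_combination w.1.1 * htwo

theorem at_J6 {r : F} {D : ℤ} (h : SgD r D) :
    Real F 3 ((Fintype.card F : ℤ) * ((Fintype.card F : ℤ) * D)) 8 1 False := by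
  have hq := (qb_hyp (F := F)).prod ((qb_hyp (F := F)).prod (qb_bqr h))
  have htwo : (2 : F) = 0 := two_F'
  have hpow4 : ∀ w, ((tJ6 r) ^ (2 ^ 2)) w = (tJ6 r) ((tJ6 r) ((tJ6 r) ((tJ6 r) w))) := by
    intro w
    simp [pow_succ]
  have hpow8 : ∀ w, ((tJ6 r) ^ (2 ^ (2 + 1))) w =
      (tJ6 r) ((tJ6 r) ((tJ6 r) ((tJ6 r) ((tJ6 r) ((tJ6 r) ((tJ6 r) ((tJ6 r) w))))))) := by
    intro w
    simp [pow_succ]
  have h1 : (tJ6 r) ^ (2 ^ (2 + 1)) = 1 := by
    apply LinearMap.ext
    intro w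
    rw [hpow8, tJ6_four, tJ6_four]
    simp only [Module.End.one_apply]
    obtain ⟨⟨x, y⟩, ⟨u, t⟩, ⟨a, c⟩⟩ := w
    refine Prod.ext (Prod.ext rfl ?_) (Prod.ext (Prod.ext ?_ rfl) rfl)
    · dsimp only
      linear_combination t * htwo
    · dsimp only
      linear_combination x * htwo
  have h2 : (tJ6 r) ^ (2 ^ 2) ≠ 1 := by
    intro e
    have h3 := congrArg (fun S : Module.End F ((F × F) × (F × F) × (F × F)) => (S ((1, 0), (0, 0), (0, 0))).2.1.1) e
    simp only [hpow4, tJ6_four] at h3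
    simp at h3
  have hfix : fixS (tJ6 r) = Submodule.span F {(((0 : F), (1 : F)), ((1 : F), (0 : F)), ((0 : F), (0 : F)))} := by
    ext v
    rw [mem_fixS, Submodule.mem_span_singleton]
    obtain ⟨⟨x, y⟩, ⟨u, t⟩, ⟨a, c⟩⟩ := v
    constructor
    · intro e
      simp only [tJ6_apply, Prod.mk.injEq] at e
      obtain ⟨⟨e1, e2⟩, ⟨e3, e4⟩, e5, e6⟩ := e
      have h3 : t = 0 := by
        rw [e5] at e6
        linear_combination e6
      have h5 : x = 0 := by rw [← e1, h3]
      have h6 : c = 0 := by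
        linear_combination e2 + e3 - r * h3
      have h7 : a = 0 := by rw [← e5, h6]
      refine ⟨y, ?_⟩
      simp [h3, h5, h6, h7, e3.symm]
    · rintro ⟨c', hc⟩
      simp only [Prod.smul_mk, smul_eq_mul, mul_one, mul_zero, Prod.mk.injEq] at hc
      obtain ⟨⟨rfl, rfl⟩, ⟨rfl, rfl⟩, rfl, rfl⟩ := hc
      simp
  refine AB.real (Q := (bq (0 : F) 0).prod ((bq (0 : F) 0).prod (bq r r))) (T := tJ6 r)
    ⟨hq.dim, hq.nd, hq.hD, fun v => ?_, by norm_num, ?_, ?_, fun hf => hf.elim⟩
  · simp only [QuadraticMap.prod_apply, bq_apply, tJ6_apply]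
    obtain ⟨⟨x, y⟩, ⟨u, t⟩, ⟨a, c⟩⟩ := v
    simp only
    linear_combination (t * c + r * t * t + r * a * t) * htwo
  · intro t
    have := ord_two_pow h1 h2 t
    simpa using this
  · rw [hfix, finrank_span_singleton (by simp)]

end Cfsg.Agent.Lib.SpEight
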