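import Cfsg.Agent.Lib.SpEight.DCount

/-!
# Quadratic spaces with an isometry: orthogonal sums and coordinates
-/

set_option autoImplicit false
set_option linter.unusedSectionVars false
set_option linter.unusedVariables false
set_option linter.unusedSimpArgs false

namespace Cfsg.Agent.Lib.SpEight

open Module QuadraticMap

universe u

variable {F : Type u} [Field F] [Fintype F]

/-- The fixed space of an endomorphism. -/
def fixS {V : Type*} [AddCommGroup V] [Module F V] (T : Module.End F V) : Submodule F V := LinearMap.ker (T - 1)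

theorem mem_fixS {V : Type*} [AddCommGroup V] [Module F V] {T : Module.End F V} {v : V} : v ∈ fixS T ↔ T v = v := by
  rw [fixS, LinearMap.mem_ker, LinearMap.sub_apply, Module.End.one_apply, sub_eq_zero]

/-- A quadratic space with an isometry; the data that we keep. -/
structure AB {V : Type*} [AddCommGroup V] [Module F V] [Fintype V] (Q : QuadraticForm F V) (T : Module.End F V)
    (d : ℕ) (D : ℤ) (o p : ℕ) (b : Prop) : Prop where
  dim : finrank F V = 2 * d
  nd : ∀ x, (∀ y, polar Q x y = 0) → x = 0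
  hD : HasD (⇑Q) D
  iso : ∀ v, Q (T v) = Q v
  pos : 0 < o
  ord : ∀ t, T ^ t = 1 ↔ o ∣ t
  par : finrank F (fixS T) % 2 = p % 2
  dbl : b → ∃ v, ∑ i ∈ Finset.range o, (T ^ i) v ≠ 0

/-- The same data in coordinates. -/
def Real (F : Type u) [Field F] [Fintype F] (d : ℕ) (D : ℤ) (o p : ℕ) (b : Prop) : Prop :=
  ∃ (Q : QuadraticForm F (Fin (2 * d) → F)) (T : Module.End F (Fin (2 * d) → F)), AB Q T d D o p b

section Transport

variable {V V' : Type*} [AddCommGroup V] [Module F V] [Fintype V] [AddCommGroup V'] [Module F V'] [Fintype V']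

/-- Conjugation by a linear equivalence. -/
def cj (e : V ≃ₗ[F] V') (T : Module.End F V) : Module.End F V' := e.toLinearMap ∘ₗ T ∘ₗ e.symm.toLinearMap

@[simp] theorem cj_apply (e : V ≃ₗ[F] V') (T : Module.End F V) (v : V') : cj e T v = e (T (e.symm v)) := rfl

theorem cj_pow (e : V ≃ₗ[F] V') (T : Module.End F V) (t : ℕ) : (cj e T) ^ t = cj e (T ^ t) := by
  induction t with
  | zero =>
    apply LinearMap.ext
    intro v
    simp
  | succ t ih =>
    rw [pow_succ, ih, pow_succ]
    apply LinearMap.ext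
    intro v
    simp

theorem cj_eq_one (e : V ≃ₗ[F] V') (T : Module.End F V) : cj e T = 1 ↔ T = 1 := by
  constructor
  · intro h
    apply LinearMap.ext
    intro v
    have := congrArg (fun S : Module.End F V' => S (e v)) h
    simpa using this
  · rintro rfl
    apply LinearMap.ext
    intro v
    simp

theorem fixS_cj (e : V ≃ₗ[F] V') (T : Module.End F V) : fixS (cj e T) = (fixS T).map (e : V →ₗ[F] V') := by
  ext v
  simp only [mem_fixS, Submodule.mem_map, cj_apply]
  constructor
  · intro h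
    refine ⟨e.symm v, ?_, by simp⟩
    apply e.injective
    simpa using h
  · rintro ⟨w, hw, rfl⟩
    have hw' : T w = w := hw
    simp [hw']

variable {Q : QuadraticForm F V} {T : Module.End F V} {d : ℕ} {D : ℤ} {o p : ℕ} {b : Prop}

theorem AB.transport (e : V ≃ₗ[F] V') (h : AB Q T d D o p b) :
    AB (Q.comp (e.symm : V' →ₗ[F] V)) (cj e T) d D o p b where
  dim := by rw [← e.finrank_eq, h.dim]
  nd := by
    intro x hx
    have h1 : e.symm x = 0 := by
      apply h.nd
      intro y
      have := hx (e y)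
      simpa [polar] using this
    simpa using h1
  hD := by
    refine HasD.of_equiv e.toEquiv (fun v => ?_) h.hD
    simp
  iso := by
    intro v
    simp [h.iso]
  pos := h.pos
  ord := by
    intro t
    rw [cj_pow, cj_eq_one, h.ord]
  par := by
    rw [fixS_cj, LinearEquiv.finrank_map_eq]
    exact h.par
  dbl := by
    intro hb
    obtain ⟨v, hv⟩ := h.dbl hb
    refine ⟨e v, ?_⟩
    simp only [cj_pow, cj_apply, LinearEquiv.symm_apply_apply]
    rw [← map_sum]
    intro h0
    exact hv (e.map_eq_zero_iff.1 h0)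

/-- From an abstract space to coordinates. -/
theorem AB.real (h : AB Q T d D o p b) : Real F d D o p b := by
  have hfin : FiniteDimensional F V := Module.Finite.of_finite
  have hd : finrank F V = finrank F (Fin (2 * d) → F) := by
    rw [h.dim]
    simp
  let e : V ≃ₗ[F] (Fin (2 * d) → F) := LinearEquiv.ofFinrankEq _ _ hd
  exact ⟨_, _, h.transport e⟩

end Transport

section Sum

variable {V₁ V₂ : Type*} [AddCommGroup V₁] [Module F V₁] [Fintype V₁] [AddCommGroup V₂] [Module F V₂] [Fintype V₂]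

theorem prodMap_pow (T₁ : Module.End F V₁) (T₂ : Module.End F V₂) (t : ℕ) :
    ((LinearMap.prodMap T₁ T₂ : Module.End F (V₁ × V₂))) ^ t = LinearMap.prodMap (T₁ ^ t) (T₂ ^ t) := by
  induction t with
  | zero =>
    apply LinearMap.ext
    intro v
    simp
  | succ t ih =>
    rw [pow_succ, ih, pow_succ, pow_succ]
    apply LinearMap.ext
    intro v
    simp

theorem fixS_prod (T₁ : Module.End F V₁) (T₂ : Module.End F V₂) :
    finrank F (fixS (LinearMap.prodMap T₁ T₂ : Module.End F (V₁ × V₂))) = finrank F (fixS T₁) + finrank F (fixS T₂) := by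
  have hfin1 : FiniteDimensional F V₁ := Module.Finite.of_finite
  have hfin2 : FiniteDimensional F V₂ := Module.Finite.of_finite
  let e : (fixS (LinearMap.prodMap T₁ T₂ : Module.End F (V₁ × V₂))) ≃ₗ[F] (fixS T₁) × (fixS T₂) :=
    { toFun := fun v => (⟨v.1.1, by
          have := mem_fixS.1 v.2
          exact mem_fixS.2 (congrArg Prod.fst this)⟩, ⟨v.1.2, by
          have := mem_fixS.1 v.2
          exact mem_fixS.2 (congrArg Prod.snd this)⟩)
      map_add' := fun _ _ => rfl
      map_smul' := fun _ _ => rfl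
      invFun := fun v => ⟨(v.1.1, v.2.1), by
          apply mem_fixS.2
          have h1 := mem_fixS.1 v.1.2
          have h2 := mem_fixS.1 v.2.2
          simp [h1, h2]⟩
      left_inv := fun _ => rfl
      right_inv := fun _ => rfl }
  rw [e.finrank_eq, Module.finrank_prod]

/-- Odd multiples do not change the sum of translates in characteristic two. -/
theorem sum_range_odd [CharP F 2] (T : Module.End F V₁) {o : ℕ} (ho : T ^ o = 1) {m : ℕ} (hm : Odd m) (v : V₁) :
    ∑ i ∈ Finset.range (o * m), (T ^ i) v = ∑ i ∈ Finset.range o, (T ^ i) v := by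
  have h2 : ∀ x : V₁, x + x = 0 := by
    intro x
    have h3 : (2 : F) = 0 := by
      have := CharP.cast_eq_zero F 2
      simpa using this
    have h4 : (2 : F) • x = 0 := by rw [h3, zero_smul]
    rwa [two_smul] at h4
  have hper : ∀ k : ℕ, ∑ i ∈ Finset.range (o * k), (T ^ i) v =
      k • ∑ i ∈ Finset.range o, (T ^ i) v := by
    intro k
    induction k with
    | zero => simp
    | succ k ih =>
      rw [Nat.mul_succ, Finset.sum_range_add, ih, succ_nsmul]
      congr 1
      refine Finset.sum_congr rfl fun i _ => ?_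
      rw [pow_add, pow_mul, ho, one_pow, one_mul]
  obtain ⟨k, rfl⟩ := hm
  rw [hper, add_nsmul, one_nsmul, mul_nsmul', two_nsmul, h2, zero_add]

variable {Q₁ : QuadraticForm F V₁} {Q₂ : QuadraticForm F V₂} {T₁ : Module.End F V₁} {T₂ : Module.End F V₂}
  {d₁ d₂ : ℕ} {D₁ D₂ : ℤ} {o₁ o₂ p₁ p₂ : ℕ} {b₁ b₂ b : Prop}

/-- **Orthogonal sums.** -/
theorem AB.sum [CharP F 2] (h₁ : AB Q₁ T₁ d₁ D₁ o₁ p₁ b₁) (h₂ : AB Q₂ T₂ d₂ D₂ o₂ p₂ b₂)
    (hb : b → b₁ ∧ ∃ m, Odd m ∧ Nat.lcm o₁ o₂ = o₁ * m) :
    AB (Q₁.prod Q₂) (LinearMap.prodMap T₁ T₂) (d₁ + d₂) (D₁ * D₂) (Nat.lcm o₁ o₂) (p₁ + p₂) b where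
  dim := by
    have hfin1 : FiniteDimensional F V₁ := Module.Finite.of_finite
    have hfin2 : FiniteDimensional F V₂ := Module.Finite.of_finite
    rw [Module.finrank_prod, h₁.dim, h₂.dim]
    ring
  nd := by
    rintro ⟨x₁, x₂⟩ hx
    have h1 : x₁ = 0 := by
      apply h₁.nd
      intro y
      have := hx (y, 0)
      simpa [polar, QuadraticMap.prod_apply] using this
    have h2 : x₂ = 0 := by
      apply h₂.nd
      intro y
      have := hx (0, y)
      simpa [polar, QuadraticMap.prod_apply] using this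
    rw [h1, h2]
    rfl
  hD := by
    have hQ₁ : ∀ (r : F) v, Q₁ (r • v) = r * r * Q₁ v := fun r v => by
      rw [QuadraticMap.map_smul, smul_eq_mul]
    have hQ₂ : ∀ (r : F) v, Q₂ (r • v) = r * r * Q₂ v := fun r v => by
      rw [QuadraticMap.map_smul, smul_eq_mul]
    exact HasD.sum hQ₁ hQ₂ h₁.hD h₂.hD
  iso := by
    rintro ⟨v₁, v₂⟩
    simp [QuadraticMap.prod_apply, h₁.iso, h₂.iso]
  pos := Nat.lcm_pos h₁.pos h₂.pos
  ord := by
    intro t
    rw [prodMap_pow, Nat.lcm_dvd_iff, ← h₁.ord, ← h₂.ord]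
    constructor
    · intro h
      constructor
      · apply LinearMap.ext
        intro v
        have := congrArg (fun S : Module.End F (V₁ × V₂) => (S (v, 0)).1) h
        simpa using this
      · apply LinearMap.ext
        intro v
        have := congrArg (fun S : Module.End F (V₁ × V₂) => (S (0, v)).2) h
        simpa using this
    · rintro ⟨h1, h2⟩
      rw [h1, h2]
      apply LinearMap.ext
      intro v
      simp
  par := by
    rw [fixS_prod, Nat.add_mod, h₁.par, h₂.par, ← Nat.add_mod]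
  dbl := by
    intro hb'
    obtain ⟨hb₁, m, hm, hl⟩ := hb hb'
    obtain ⟨v, hv⟩ := h₁.dbl hb₁
    refine ⟨(v, 0), ?_⟩
    intro h0
    apply hv
    have h3 := congrArg Prod.fst h0
    rw [hl, Prod.fst_sum] at h3
    rw [← sum_range_odd T₁ ((h₁.ord o₁).2 dvd_rfl) hm v]
    simpa [prodMap_pow] using h3

end Sum

theorem Real.sum [CharP F 2] {d₁ d₂ : ℕ} {D₁ D₂ : ℤ} {o₁ o₂ p₁ p₂ : ℕ} {b₁ b₂ b : Prop} (h₁ : Real F d₁ D₁ o₁ p₁ b₁)
    (h₂ : Real F d₂ D₂ o₂ p₂ b₂) (hb : b → b₁ ∧ ∃ m, Odd m ∧ Nat.lcm o₁ o₂ = o₁ * m) :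
    Real F (d₁ + d₂) (D₁ * D₂) (Nat.lcm o₁ o₂) (p₁ + p₂) b := by
  obtain ⟨Q₁, T₁, h₁⟩ := h₁
  obtain ⟨Q₂, T₂, h₂⟩ := h₂
  exact (h₁.sum h₂ hb).real

end Cfsg.Agent.Lib.SpEight
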