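import Mathlib

/-!
# The counting invariant of a quadratic form in characteristic two

`HasD Q D` says `q * #{Q = 0} = |V| + (q - 1) * D`. The invariant is multiplicative on orthogonal sums,
and it does not change under the transfer by the trace.
-/

set_option autoImplicit false
set_option linter.unusedSectionVars false
set_option linter.unusedVariables false
set_option linter.unusedSimpArgs false

namespace Cfsg.Agent.Lib.SpEight

open Finset Module

section Basic

variable {L : Type*} [Field L] [Fintype L]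

open _root_.Classical in
/-- The number of points with a given value. -/
noncomputable def vc {V : Type*} [Fintype V] (Q : V → L) (c : L) : ℕ := (univ.filter fun x => Q x = c).card

open _root_.Classical in
theorem vc_eq_sum {V : Type*} [Fintype V] (Q : V → L) (c : L) : vc Q c = ∑ x : V, if Q x = c then 1 else 0 := by
  rw [vc, Finset.card_filter]

/-- The invariant. -/
def HasD {V : Type*} [Fintype V] (Q : V → L) (D : ℤ) : Prop :=
  (Fintype.card L : ℤ) * (vc Q 0 : ℤ) = Fintype.card V + ((Fintype.card L : ℤ) - 1) * D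

open _root_.Classical in
/-- Summing through the values. -/
theorem sum_comp_vc {V : Type*} [Fintype V] (Q : V → L) (f : L → ℕ) : ∑ v : V, f (Q v) = ∑ c : L, vc Q c * f c := by
  have h1 : ∀ v : V, f (Q v) = ∑ c : L, (if Q v = c then 1 else 0) * f c := by
    intro v
    rw [Finset.sum_eq_single (Q v)]
    · simp
    · intro b _ hb
      simp [Ne.symm hb]
    · simp
  simp only [h1]
  rw [Finset.sum_comm]
  refine Finset.sum_congr rfl fun c _ => ?_
  rw [← Finset.sum_mul, vc_eq_sum]

theorem vc_total {V : Type*} [Fintype V] (Q : V → L) : ∑ c : L, vc Q c = Fintype.card V := by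
  have := sum_comp_vc Q (fun _ => 1)
  simp only [Finset.sum_const, smul_eq_mul, mul_one, Finset.card_univ] at this
  exact this.symm

theorem vc_congr {V V' : Type*} [Fintype V] [Fintype V'] (e : V ≃ V') {Q : V → L} {Q' : V' → L}
    (h : ∀ v, Q' (e v) = Q v) (c : L) : vc Q' c = vc Q c := by
  classical
  rw [vc_eq_sum, vc_eq_sum, ← Equiv.sum_comp e]
  simp only [h]

theorem HasD.of_equiv {V V' : Type*} [Fintype V] [Fintype V'] (e : V ≃ V') {Q : V → L} {Q' : V' → L}
    (h : ∀ v, Q' (e v) = Q v) {D : ℤ} (hD : HasD Q D) : HasD Q' D := by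
  unfold HasD at *
  rw [vc_congr e h, hD, Fintype.card_congr e]

/-- The invariant is unique. -/
theorem HasD.unique {V : Type*} [Fintype V] {Q : V → L} {D D' : ℤ} (h : HasD Q D) (h' : HasD Q D') : D = D' := by
  unfold HasD at *
  have hq : (1 : ℤ) < Fintype.card L := by exact_mod_cast (Fintype.one_lt_card : 1 < Fintype.card L)
  have h1 : ((Fintype.card L : ℤ) - 1) * D = ((Fintype.card L : ℤ) - 1) * D' := by linarith
  exact mul_left_cancel₀ (by omega) h1

variable [CharP L 2]

/-- Squares. -/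
theorem exists_sq (c : L) : ∃ r : L, r * r = c := by
  have h : ringChar L = 2 := (ringChar.eq_iff.2 inferInstance)
  obtain ⟨r, hr⟩ := FiniteField.isSquare_of_char_two h c
  exact ⟨r, hr.symm⟩

/-- All nonzero values are taken equally often. -/
theorem vc_eq_of_ne {V : Type*} [Fintype V] [AddCommGroup V] [Module L V] {Q : V → L}
    (hQ : ∀ (r : L) v, Q (r • v) = r * r * Q v) {c : L} (hc : c ≠ 0) : vc Q c = vc Q 1 := by
  classical
  obtain ⟨r, hr⟩ := exists_sq c
  have hr0 : r ≠ 0 := by
    rintro rfl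
    exact hc (by rw [← hr, zero_mul])
  have he := vc_congr (Q := fun v => Q (r • v)) (Q' := Q) (DistribMulAction.toAddEquiv V (Units.mk0 r hr0)).toEquiv
    (fun v => rfl) c
  rw [he, vc_eq_sum, vc_eq_sum]
  refine Finset.sum_congr rfl fun v _ => ?_
  simp only [hQ, hr]
  by_cases h : Q v = 1
  · simp [h]
  · have : ¬ c * Q v = c := by
      intro e
      exact h (mul_left_cancel₀ hc (by rw [e, mul_one]))
    simp [h, this]

open _root_.Classical in
/-- The sum through the values, split at zero. -/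
theorem sum_split {V : Type*} [Fintype V] [AddCommGroup V] [Module L V] {Q : V → L}
    (hQ : ∀ (r : L) v, Q (r • v) = r * r * Q v) (f : L → ℕ) :
    ∑ c : L, vc Q c * f c = vc Q 0 * f 0 + vc Q 1 * ∑ c ∈ univ.erase (0 : L), f c := by
  classical
  rw [← Finset.add_sum_erase _ _ (Finset.mem_univ (0 : L)), Finset.mul_sum]
  congr 1
  refine Finset.sum_congr rfl fun c hc => ?_
  rw [vc_eq_of_ne hQ (Finset.ne_of_mem_erase hc)]

theorem vc_zero_add {V : Type*} [Fintype V] [AddCommGroup V] [Module L V] {Q : V → L}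
    (hQ : ∀ (r : L) v, Q (r • v) = r * r * Q v) :
    vc Q 0 + (Fintype.card L - 1) * vc Q 1 = Fintype.card V := by
  classical
  have h1 := sum_split hQ (fun _ => 1)
  simp only [mul_one, Finset.sum_const, smul_eq_mul] at h1
  rw [vc_total, Finset.card_erase_of_mem (Finset.mem_univ _), Finset.card_univ] at h1
  rw [h1, mul_comm]

/-- The count of a nonzero value. -/
theorem HasD.card_one {V : Type*} [Fintype V] [AddCommGroup V] [Module L V] {Q : V → L}
    (hQ : ∀ (r : L) v, Q (r • v) = r * r * Q v) {D : ℤ} (h : HasD Q D) :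
    (Fintype.card L : ℤ) * (vc Q 1 : ℤ) = Fintype.card V - D := by
  unfold HasD at h
  have hq : (1 : ℤ) < Fintype.card L := by exact_mod_cast (Fintype.one_lt_card : 1 < Fintype.card L)
  have h1 : 1 ≤ Fintype.card L := Fintype.card_pos
  have h2 : (vc Q 0 : ℤ) + ((Fintype.card L : ℤ) - 1) * (vc Q 1 : ℤ) = Fintype.card V := by
    have := vc_zero_add hQ
    zify [h1] at this
    exact this
  have h3 : ((Fintype.card L : ℤ) - 1) * ((Fintype.card L : ℤ) * (vc Q 1 : ℤ)) =
      ((Fintype.card L : ℤ) - 1) * (Fintype.card V - D) := by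
    linear_combination (Fintype.card L : ℤ) * h2 - h
  exact mul_left_cancel₀ (by omega) h3

/-- **Multiplicativity on orthogonal sums.** -/
theorem HasD.sum {V₁ V₂ : Type*} [Fintype V₁] [Fintype V₂] [AddCommGroup V₁] [Module L V₁] [AddCommGroup V₂]
    [Module L V₂] {Q₁ : V₁ → L} {Q₂ : V₂ → L} (hQ₁ : ∀ (r : L) v, Q₁ (r • v) = r * r * Q₁ v)
    (hQ₂ : ∀ (r : L) v, Q₂ (r • v) = r * r * Q₂ v) {D₁ D₂ : ℤ} (h₁ : HasD Q₁ D₁) (h₂ : HasD Q₂ D₂) :
    HasD (fun v : V₁ × V₂ => Q₁ v.1 + Q₂ v.2) (D₁ * D₂) := by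
  classical
  have hcount : vc (fun v : V₁ × V₂ => Q₁ v.1 + Q₂ v.2) 0 =
      vc Q₁ 0 * vc Q₂ 0 + (Fintype.card L - 1) * (vc Q₁ 1 * vc Q₂ 1) := by
    rw [vc_eq_sum, Fintype.sum_prod_type]
    have h3 : ∀ v₁ : V₁, (∑ v₂ : V₂, if Q₁ v₁ + Q₂ v₂ = 0 then 1 else 0) = vc Q₂ (Q₁ v₁) := by
      intro v₁
      rw [vc_eq_sum]
      refine Finset.sum_congr rfl fun v₂ _ => ?_
      have h4 : Q₁ v₁ + Q₂ v₂ = 0 ↔ Q₂ v₂ = Q₁ v₁ := by
        constructor
        · intro e
          have h5 : (2 : L) = 0 := by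
            have := CharP.cast_eq_zero L 2
            simpa using this
          linear_combination e - Q₁ v₁ * h5
        · intro e
          have h5 : (2 : L) = 0 := by
            have := CharP.cast_eq_zero L 2
            simpa using this
          rw [e]
          linear_combination Q₁ v₁ * h5
      simp only [h4]
    simp only [h3]
    rw [sum_comp_vc Q₁ (vc Q₂), sum_split hQ₁]
    have h6 : ∑ c ∈ univ.erase (0 : L), vc Q₂ c = (Fintype.card L - 1) * vc Q₂ 1 := by
      rw [Finset.sum_congr rfl fun c hc => vc_eq_of_ne hQ₂ (Finset.ne_of_mem_erase hc), Finset.sum_const,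
        Finset.card_erase_of_mem (Finset.mem_univ _), Finset.card_univ, smul_eq_mul]
    rw [h6]
    ring
  unfold HasD at *
  have hq : (1 : ℤ) < Fintype.card L := by exact_mod_cast (Fintype.one_lt_card : 1 < Fintype.card L)
  have hq1 : 1 ≤ Fintype.card L := Fintype.card_pos
  have h3 := HasD.card_one hQ₁ h₁
  have h4 := HasD.card_one hQ₂ h₂
  rw [hcount, Fintype.card_prod]
  push_cast [hq1]
  set q : ℤ := ((Fintype.card L : ℕ) : ℤ) with hqdef
  set z₁ : ℤ := ((vc Q₁ 0 : ℕ) : ℤ)
  set z₂ : ℤ := ((vc Q₂ 0 : ℕ) : ℤ)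
  set n₁ : ℤ := ((vc Q₁ 1 : ℕ) : ℤ)
  set n₂ : ℤ := ((vc Q₂ 1 : ℕ) : ℤ)
  set w₁ : ℤ := ((Fintype.card V₁ : ℕ) : ℤ)
  set w₂ : ℤ := ((Fintype.card V₂ : ℕ) : ℤ)
  have h5 : q * (q * (z₁ * z₂ + (q - 1) * (n₁ * n₂))) = q * (w₁ * w₂ + (q - 1) * (D₁ * D₂)) := by
    have e : q * (q * (z₁ * z₂ + (q - 1) * (n₁ * n₂))) = (q * z₁) * (q * z₂) + (q - 1) * ((q * n₁) * (q * n₂)) := by ring
    rw [e, h₁, h₂, h3, h4]
    ring
  exact mul_left_cancel₀ (by omega) h5

/-- An anisotropic form on a space with `L²` elements. -/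
theorem hasD_aniso {V : Type*} [Fintype V] [AddCommGroup V] {Q : V → L} (h0 : ∀ v, Q v = 0 ↔ v = 0)
    (hc : Fintype.card V = Fintype.card L ^ 2) : HasD Q (-(Fintype.card L : ℤ)) := by
  classical
  have h1 : vc Q 0 = 1 := by
    rw [vc, Finset.card_eq_one]
    refine ⟨0, ?_⟩
    ext v
    simp [h0]
  unfold HasD
  rw [h1, hc]
  push_cast
  ring

/-- The hyperbolic plane. -/
theorem hasD_hyp : HasD (fun v : L × L => v.1 * v.2) (Fintype.card L : ℤ) := by
  classical
  have h1 : vc (fun v : L × L => v.1 * v.2) 0 + 1 = 2 * Fintype.card L := by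
    rw [vc_eq_sum, Fintype.sum_prod_type]
    have h3 : ∀ x : L, (∑ y : L, if x * y = 0 then 1 else 0) = if x = 0 then Fintype.card L else 1 := by
      intro x
      by_cases hx : x = 0
      · simp [hx, Finset.card_univ]
      · simp [hx]
    simp only [h3]
    rw [← Finset.add_sum_erase _ _ (Finset.mem_univ (0 : L))]
    simp only [if_true]
    rw [Finset.sum_congr rfl fun c hc => if_neg (Finset.ne_of_mem_erase hc), Finset.sum_const,
      Finset.card_erase_of_mem (Finset.mem_univ _), Finset.card_univ, smul_eq_mul, mul_one]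
    have : 1 ≤ Fintype.card L := Fintype.card_pos
    omega
  unfold HasD
  have h2 : (vc (fun v : L × L => v.1 * v.2) 0 : ℤ) = 2 * Fintype.card L - 1 := by
    zify at h1
    linarith
  rw [h2, Fintype.card_prod]
  push_cast
  ring

end Basic

section Trace

variable {F K : Type*} [Field F] [Fintype F] [Field K] [Fintype K] [Algebra F K] [CharP K 2]

open _root_.Classical in
/-- The number of elements of trace zero. -/
theorem card_trace_zero : Fintype.card F * (univ.filter fun c : K => Algebra.trace F K c = 0).card = Fintype.card K := by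
  haveI : FiniteDimensional F K := Module.Finite.of_finite
  let tr : K →ₗ[F] F := Algebra.trace F K
  have hsurj : Function.Surjective tr := Algebra.trace_surjective F K
  have hr := LinearMap.finrank_range_add_finrank_ker tr
  rw [LinearMap.range_eq_top.2 hsurj, finrank_top, finrank_self] at hr
  have hc1 : Fintype.card (LinearMap.ker tr) = (univ.filter fun c : K => tr c = 0).card := by
    rw [Fintype.card_subtype]
    rfl
  have hc2 : Fintype.card (LinearMap.ker tr) = Fintype.card F ^ finrank F (LinearMap.ker tr) :=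
    Module.card_eq_pow_finrank
  have hc3 : Fintype.card K = Fintype.card F ^ finrank F K := Module.card_eq_pow_finrank
  change Fintype.card F * (univ.filter fun c : K => tr c = 0).card = _
  rw [← hc1, hc2, hc3, ← pow_succ', add_comm, hr]

/-- **The transfer by the trace** preserves the invariant. -/
theorem HasD.trace {V : Type*} [Fintype V] [AddCommGroup V] [Module K V] {Q : V → K}
    (hQ : ∀ (r : K) v, Q (r • v) = r * r * Q v) {D : ℤ} (h : HasD Q D) :
    HasD (fun v => Algebra.trace F K (Q v)) D := by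
  classical
  set q : ℕ := Fintype.card F with hqdef
  set Q₀ : ℕ := Fintype.card K with hQ₀
  set t : ℕ := (univ.filter fun c : K => Algebra.trace F K c = 0).card with ht
  have hcard := card_trace_zero (F := F) (K := K)
  have hcount : vc (fun v => Algebra.trace F K (Q v)) 0 + vc Q 1 = vc Q 0 + vc Q 1 * t := by
    have h1 : vc (fun v => Algebra.trace F K (Q v)) 0 =
        ∑ c : K, vc Q c * (fun c : K => if Algebra.trace F K c = 0 then 1 else 0) c := by
      rw [vc_eq_sum]
      exact sum_comp_vc Q (fun c : K => if Algebra.trace F K c = 0 then 1 else 0)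
    rw [h1, sum_split hQ]
    have h2 : ∑ c ∈ univ.erase (0 : K), (if Algebra.trace F K c = 0 then 1 else 0) + 1 = t := by
      rw [ht, Finset.card_filter, ← Finset.add_sum_erase _ _ (Finset.mem_univ (0 : K))]
      simp only [map_zero, if_true]
      omega
    rw [← h2]
    simp only [map_zero, if_true, mul_one]
    ring
  unfold HasD at *
  have hq1 : (1 : ℤ) < q := by exact_mod_cast (Fintype.one_lt_card : 1 < Fintype.card F)
  have hQ1 : (1 : ℤ) < Q₀ := by exact_mod_cast (Fintype.one_lt_card : 1 < Fintype.card K)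
  have hc1 := HasD.card_one hQ (D := D) h
  have hcard' : (q : ℤ) * t = Q₀ := by exact_mod_cast hcard
  have hcount' : (vc (fun v => Algebra.trace F K (Q v)) 0 : ℤ) + vc Q 1 = vc Q 0 + vc Q 1 * t := by
    exact_mod_cast hcount
  set z : ℤ := ((vc (fun v => Algebra.trace F K (Q v)) 0 : ℕ) : ℤ)
  set z₀ : ℤ := ((vc Q 0 : ℕ) : ℤ)
  set n : ℤ := ((vc Q 1 : ℕ) : ℤ)
  set w : ℤ := ((Fintype.card V : ℕ) : ℤ)
  -- `h : Q₀ z₀ = w + (Q₀ - 1) D`, `hc1 : Q₀ n = w - D`
  have h5 : (Q₀ : ℤ) * ((q : ℤ) * z) = (Q₀ : ℤ) * (w + ((q : ℤ) - 1) * D) := by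
    have e : z = z₀ + n * t - n := by linarith
    rw [e]
    have e2 : (Q₀ : ℤ) * ((q : ℤ) * (z₀ + n * t - n)) =
        (q : ℤ) * ((Q₀ : ℤ) * z₀) + ((q : ℤ) * t - q) * ((Q₀ : ℤ) * n) := by ring
    rw [e2, h, hc1, hcard']
    ring
  exact mul_left_cancel₀ (by omega) h5

end Trace

end Cfsg.Agent.Lib.SpEight
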