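import Cfsg.Agent.Lib.SpEight.Table
import Cfsg.Agent.Lib.Classical.Symp.OrdClass

/-!
# Self-reciprocal characteristic polynomials and the upper bound for `Sp₈(q)`, `q` even
-/

set_option autoImplicit false
set_option linter.unusedSectionVars false
set_option linter.unusedVariables false
set_option linter.unusedSimpArgs false

namespace Cfsg.Agent.Lib.SpEight

open Polynomial Module Matrix

section CharPoly

variable {F : Type*} [Field F] {n : Type*} [Fintype n] [DecidableEq n]

theorem charpoly_transpose' (M : Matrix n n F) : Mᵀ.charpoly = M.charpoly := by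
  unfold Matrix.charpoly
  rw [← det_transpose]
  congr 1
  ext i j
  simp only [transpose_apply, charmatrix_apply, diagonal_apply, eq_comm]

/-- Charpoly of an inverse is the reverse. -/
theorem reverse_charpoly_of_inverse (M N : Matrix n n F) (h : M * N = 1) :
    M.charpoly.reverse = C ((-1) ^ Fintype.card n * M.det) * N.charpoly := by
  rw [Matrix.reverse_charpoly, Matrix.charpolyRev]
  have h1 : (1 : Matrix n n F[X]) - (X : F[X]) • M.map C = - (M.map C * charmatrix N) := by
    have h3 : M.map (C : F → F[X]) * N.map C = 1 := by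
      have := congrArg (fun W => W.map (C : F → F[X])) h
      rw [Matrix.map_one _ (map_zero _) (map_one _)] at this
      rw [← this]
      rw [Matrix.map_mul]
    rw [charmatrix, Matrix.mul_sub]
    have h4 : (C : F →+* F[X]).mapMatrix N = N.map C := rfl
    rw [h4, h3]
    have h5 : M.map (C : F → F[X]) * Matrix.scalar n (X : F[X]) = (X : F[X]) • M.map C := by
      ext i j
      rw [Matrix.scalar_apply, Matrix.mul_diagonal, Matrix.smul_apply, smul_eq_mul, mul_comm]
    rw [h5]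
    abel
  rw [h1, det_neg, det_mul, Matrix.charpoly]
  have h6 : (M.map (C : F → F[X])).det = C M.det := by
    have := RingHom.map_det (C : F →+* F[X]) M
    rw [this]
    rfl
  rw [h6]
  simp only [C_mul, map_pow, map_neg, C_1, mul_assoc]

theorem charpoly_coeff_zero_ne (M : Matrix n n F) (h : M.det ≠ 0) : M.charpoly.coeff 0 ≠ 0 := by
  intro e
  apply h
  rw [Matrix.det_eq_sign_charpoly_coeff, e, mul_zero]

/-- A matrix preserving a nondegenerate form has self-reciprocal characteristic polynomial. -/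
theorem selfRec_of_preserves (M P : Matrix n n F) (hP : IsUnit P.det) (h : Mᵀ * P * M = P) :
    M.det ≠ 0 ∧ SelfRec M.charpoly := by
  have h1 : (Mᵀ * P * M).det = P.det := by rw [h]
  rw [det_mul, det_mul, det_transpose] at h1
  have hP0 : P.det ≠ 0 := hP.ne_zero
  have hdet : M.det ≠ 0 := by
    intro e
    rw [e, mul_zero] at h1
    exact hP0 h1.symm
  refine ⟨hdet, ?_⟩
  -- `N = P⁻¹ Mᵀ P` is the inverse of `M`
  set N : Matrix n n F := P⁻¹ * Mᵀ * P with hN
  have hNM : N * M = 1 := by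
    rw [hN, Matrix.mul_assoc, Matrix.mul_assoc, ← Matrix.mul_assoc Mᵀ, h]
    exact Matrix.nonsing_inv_mul _ hP
  have hMN : M * N = 1 := mul_eq_one_comm.1 hNM
  have hch : N.charpoly = M.charpoly := by
    let U : (Matrix n n F)ˣ := ⟨P⁻¹, P, Matrix.nonsing_inv_mul _ hP, Matrix.mul_nonsing_inv _ hP⟩
    have := Matrix.charpoly_units_conj U Mᵀ
    rw [charpoly_transpose'] at this
    have e : ((U : Matrix n n F))⁻¹ = P := Matrix.nonsing_inv_nonsing_inv _ hP
    rw [e] at this
    exact this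
  refine ⟨(-1) ^ Fintype.card n * M.det, mul_ne_zero (by simp) hdet, ?_⟩
  rw [reverse_charpoly_of_inverse M N hMN, hch]

end CharPoly

section Poly

variable {F : Type*} [Field F] [Fintype F]

theorem reverse_X_sub_one : (X - 1 : F[X]).reverse = C (-1) * (X - 1) := by
  have hdeg : (X - 1 : F[X]).natDegree = 1 := by
    simpa using natDegree_X_sub_C (1 : F)
  ext n
  rw [coeff_reverse, hdeg, coeff_C_mul]
  rcases n with _ | _ | n
  · simp [revAt_le, coeff_one]
  · simp [revAt_le, coeff_one]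
  · rw [revAt_eq_self_of_lt (by omega)]
    simp [coeff_X, coeff_one]

/-- The main polynomial statement. -/
theorem poly_table [CharP F 2] (hq : Even (Fintype.card F)) {χ : F[X]} (hm : χ.Monic) (hdeg : χ.natDegree = 8)
    (hrec : SelfRec χ) (h0 : χ.coeff 0 ≠ 0) :
    ∃ M a k : ℕ, Odd M ∧ χ ∣ (X ^ M - 1) ^ (2 ^ a) ∧ 2 * k ≤ 2 ^ a ∧ χ.rootMultiplicity 1 = 2 * k ∧
      ∃ N, IsL (Fintype.card F) N ∧ 2 ^ a * M ∣ N := by
  classical
  have h2 : 2 ≤ Fintype.card F := Fintype.one_lt_card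
  obtain ⟨ψ, hψ, hnd⟩ := exists_eq_pow_rootMultiplicity_mul_and_not_dvd χ hm.ne_zero (1 : F)
  rw [C_1] at hψ hnd
  set e := χ.rootMultiplicity 1 with he
  have hXm : (X - 1 : F[X]).Monic := by simpa using monic_X_sub_C (1 : F)
  have hXe : ((X - 1 : F[X]) ^ e).Monic := hXm.pow e
  have hψm : ψ.Monic := by
    apply Monic.of_mul_monic_left hXe
    rw [← hψ]
    exact hm
  have hψc : IsCoprime ψ (X - 1) := by
    have h1 : Irreducible (X - 1 : F[X]) := by simpa using irreducible_X_sub_C (1 : F)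
    exact (h1.coprime_iff_not_dvd.2 hnd).symm
  have hψ0 : ψ.coeff 0 ≠ 0 := by
    rw [hψ, mul_coeff_zero] at h0
    exact right_ne_zero_of_mul h0
  have hψr : SelfRec ψ := by
    obtain ⟨c, hc, hr⟩ := hrec
    have h1 : ((X - 1 : F[X]) ^ e) * (C ((-1) ^ e) * ψ.reverse) = ((X - 1 : F[X]) ^ e) * (C c * ψ) := by
      have h3 : ((X - 1 : F[X]) ^ e).reverse = C ((-1) ^ e) * (X - 1) ^ e := by
        clear hψ hXe hψm hnd hψc hψ0 hXm he
        induction e with
        | zero =>
          rw [pow_zero, pow_zero, C_1, one_mul, ← C_1, reverse, natDegree_C, reflect_C]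
          simp
        | succ t ih =>
          rw [pow_succ, reverse_mul_of_domain, ih, reverse_X_sub_one, pow_succ, C_mul]
          ring
      have h4 := hr
      rw [hψ, reverse_mul_of_domain, h3] at h4
      linear_combination h4
    have h5 := mul_left_cancel₀ hXe.ne_zero h1
    have hs : ((-1 : F) ^ e) * ((-1) ^ e) = 1 := by
      rw [← mul_pow]
      simp
    refine ⟨(-1) ^ e * c, mul_ne_zero (pow_ne_zero _ (by simp)) hc, ?_⟩
    have h6 : (C ((-1) ^ e) * C ((-1) ^ e) : F[X]) = 1 := by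
      rw [← C_mul, hs, C_1]
    calc ψ.reverse = (C ((-1) ^ e) * C ((-1) ^ e)) * ψ.reverse := by rw [h6, one_mul]
      _ = C ((-1) ^ e) * (C ((-1) ^ e) * ψ.reverse) := by ring
      _ = C ((-1) ^ e) * (C c * ψ) := by rw [h5]
      _ = _ := by rw [C_mul]; ring
  obtain ⟨l, hl1, hl2, hl3⟩ := exists_blocks ψ.natDegree ψ rfl hψm hψr hψ0 hψc
  have hdg : χ.natDegree = e + ψ.natDegree := by
    rw [hψ, hXe.natDegree_mul hψm, hXm.natDegree_pow]
    have : (X - 1 : F[X]).natDegree = 1 := by simpa using natDegree_X_sub_C (1 : F)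
    rw [this, mul_one]
  have hk : ∃ k, e = 2 * k := by
    refine ⟨e / 2, ?_⟩
    omega
  obtain ⟨k, hk⟩ := hk
  have hsum : k + (l.map (·.2.1)).sum = 4 := by omega
  obtain ⟨M, a, hM, hd, hka, N, hN, hdN⟩ := tab_all hq h2 l k hl1 hsum
  refine ⟨M, a, k, hM, ?_, hka, hk, N, hN, hdN⟩
  rw [hψ, hl2]
  rw [← hl2]
  have hcop : IsCoprime ((X - 1 : F[X]) ^ e) ψ := (hψc.symm).pow_left
  refine hcop.mul_dvd ?_ (by rw [hl2]; exact hd)
  rw [hk]
  exact (pow_dvd_pow _ hka).trans (pow_dvd_pow_of_dvd (X_sub_one_dvd M) _)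

theorem X_pow_char [CharP F 2] (M a : ℕ) : (X ^ M - 1 : F[X]) ^ (2 ^ a) = X ^ (2 ^ a * M) - 1 := by
  haveI : Fact (Nat.Prime 2) := ⟨Nat.prime_two⟩
  rw [sub_pow_char_pow, one_pow, ← pow_mul, mul_comm]

end Poly

section Sp

variable {F : Type*} [Field F] [Fintype F] [CharP F 2]

open Cfsg Cfsg.Agent.Lib.Classical.Symp.Basic Cfsg.Agent.Lib.Classical.Symp.OrdClass

theorem even_card : Even (Fintype.card F) := by
  obtain ⟨r, hpr, hF⟩ := FiniteField.card F 2
  rw [hF]
  exact (Nat.even_pow.2 ⟨even_two, r.ne_zero⟩)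

/-- A matrix annihilated by a divisor. -/
theorem pow_eq_one_of_charpoly {n : Type*} [Fintype n] [DecidableEq n] (M : Matrix n n F) {N : ℕ}
    (h : M.charpoly ∣ (X ^ N - 1 : F[X])) : M ^ N = 1 := by
  obtain ⟨g, hg⟩ := h
  have h1 := congrArg (aeval M) hg
  rw [map_mul, Matrix.aeval_self_charpoly, zero_mul, map_sub, map_pow, aeval_X, map_one, sub_eq_zero] at h1
  exact h1

/-- Upper bound for a matrix preserving a nondegenerate form in dimension eight. -/
theorem mat_table {n : Type*} [Fintype n] [DecidableEq n] (hn : Fintype.card n = 8) (M P : Matrix n n F)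
    (hP : IsUnit P.det) (h : Mᵀ * P * M = P) :
    ∃ A a k : ℕ, Odd A ∧ M ^ (2 ^ a * A) = 1 ∧ 2 * k ≤ 2 ^ a ∧ M.charpoly.rootMultiplicity 1 = 2 * k ∧
      ∃ N, IsL (Fintype.card F) N ∧ 2 ^ a * A ∣ N := by
  obtain ⟨hdet, hrec⟩ := selfRec_of_preserves M P hP h
  have hm := Matrix.charpoly_monic M
  have hdeg : M.charpoly.natDegree = 8 := by
    rw [Matrix.charpoly_natDegree_eq_dim, hn]
  obtain ⟨A, a, k, hA, hd, hka, hr, N, hN, hdN⟩ := poly_table even_card hm hdeg hrec (charpoly_coeff_zero_ne M hdet)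
  refine ⟨A, a, k, hA, ?_, hka, hr, N, hN, hdN⟩
  apply pow_eq_one_of_charpoly
  rw [← X_pow_char]
  exact hd

/-- Every element of `Sp₈(q)`, `q` even, has order dividing a listed number. -/
theorem sp_order_dvd (A : Matrix.symplecticGroup (Fin 4) F) : ∃ N, IsL (Fintype.card F) N ∧ orderOf A ∣ N := by
  have hJ : IsUnit (J (Fin 4) F).det := by
    have h1 : (J (Fin 4) F * J (Fin 4) F).det = (-1 : Matrix (Fin 4 ⊕ Fin 4) (Fin 4 ⊕ Fin 4) F).det := by
      rw [J_mul_J]
    rw [Matrix.det_mul] at h1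
    have h3 : (-1 : Matrix (Fin 4 ⊕ Fin 4) (Fin 4 ⊕ Fin 4) F).det ≠ 0 := by
      rw [Matrix.det_neg]
      simp
    rw [← h1] at h3
    exact isUnit_iff_ne_zero.2 (left_ne_zero_of_mul h3)
  have hmem := (SymplecticGroup.mem_iff' (l := Fin 4) (R := F)).1 A.2
  obtain ⟨B, a, k, hB, hp, hka, hr, N, hN, hdN⟩ := mat_table (by simp) A.1 (J (Fin 4) F) hJ hmem
  refine ⟨N, hN, (orderOf_dvd_of_pow_eq_one ?_).trans hdN⟩
  exact (Cfsg.Agent.Lib.Classical.Symp.OrdModels.sp_pow_eq_one_iff A _).2 hp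

/-- Every element of `PSp₈(q)`, `q` even, has order dividing a listed number. -/
theorem psp_order_dvd (z : Cfsg.PSp 4 F) : ∃ N, IsL (Fintype.card F) N ∧ orderOf z ∣ N := by
  obtain ⟨A, rfl⟩ := QuotientGroup.mk_surjective z
  obtain ⟨N, hN, hd⟩ := sp_order_dvd A
  refine ⟨N, hN, dvd_trans ?_ hd⟩
  exact orderOf_map_dvd (QuotientGroup.mk' _) A

end Sp

end Cfsg.Agent.Lib.SpEight
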