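import Cfsg.Agent.Lib.SpEight.Transfer
import Cfsg.Agent.Lib.SpEight.SpUpper

/-!
# The listed orders are attained by elements of the orthogonal group of minus type
-/

set_option autoImplicit false
set_option linter.unusedSectionVars false
set_option linter.unusedVariables false
set_option linter.unusedSimpArgs false

namespace Cfsg.Agent.Lib.SpEight

open Module QuadraticMap Cfsg
open Cfsg.Agent.Lib.Linalg.OrthModels Cfsg.Agent.Lib.Classical.Witt.Hyp
open Cfsg.Agent.Lib.Classical.Orth.Basic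
open Cfsg.Agent.Lib.Classical.Spectra.Bridge Cfsg.Agent.Lib.Classical.Symp.OrdModels

universe u

variable {F : Type u} [Field F] [Fintype F]

theorem Real.congr {d d' : ℕ} {D D' : ℤ} {o o' p : ℕ} {b : Prop} (h : Real F d D o p b) (h1 : d = d') (h2 : D = D')
    (h3 : o = o') : Real F d' D' o' p b := by
  subst h1 h2 h3
  exact h

/-- Orthogonal sums with coprime orders. -/
theorem Real.sumC [CharP F 2] {d₁ d₂ : ℕ} {D₁ D₂ : ℤ} {o₁ o₂ p₁ p₂ : ℕ} {b₁ b₂ b : Prop} (h₁ : Real F d₁ D₁ o₁ p₁ b₁)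
    (h₂ : Real F d₂ D₂ o₂ p₂ b₂) (hc : Nat.Coprime o₁ o₂) (hb : b → b₁ ∧ Odd o₂) :
    Real F (d₁ + d₂) (D₁ * D₂) (o₁ * o₂) (p₁ + p₂) b := by
  have := h₁.sum h₂ (b := b) (fun hb' => ⟨(hb hb').1, o₂, (hb hb').2, hc.lcm_eq_mul⟩)
  rwa [hc.lcm_eq_mul] at this

section Arith

variable {q : ℕ}

theorem cop_odd_two {n : ℕ} (h : Odd n) (k : ℕ) : Nat.Coprime n (2 ^ k) :=
  Nat.Coprime.pow_right k (Nat.coprime_comm.1 (Nat.coprime_two_left.2 h))

theorem cop_two_odd {n : ℕ} (h : Odd n) (k : ℕ) : Nat.Coprime (2 ^ k) n :=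
  (cop_odd_two h k).symm

theorem odd_pm (hq : Even q) (h2 : 2 ≤ q) {d : ℕ} (hd : 1 ≤ d) : Odd (q ^ d - 1) := by
  simpa using tv_odd hq h2 hd true

theorem odd_pp (hq : Even q) (h2 : 2 ≤ q) {d : ℕ} (hd : 1 ≤ d) : Odd (q ^ d + 1) := by
  simpa using tv_odd hq h2 hd false

theorem cop_sq_p (hq : Even q) (h2 : 2 ≤ q) : Nat.Coprime (q ^ 2 + 1) (q + 1) := by
  obtain ⟨r, rfl⟩ : ∃ r, q = r + 1 := ⟨q - 1, by omega⟩
  refine cop_aux' (odd_pp hq h2 (by norm_num)) (c := r) ?_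
  ring

theorem cop_sq_m (hq : Even q) (h2 : 2 ≤ q) : Nat.Coprime (q ^ 2 + 1) (q - 1) := by
  obtain ⟨r, rfl⟩ : ∃ r, q = r + 1 := ⟨q - 1, by omega⟩
  refine cop_aux' (odd_pp hq h2 (by norm_num)) (c := r + 2) ?_
  simp only [Nat.add_sub_cancel]
  ring

end Arith

variable [CharP F 2]

theorem sgP : SgD (0 : F) (Fintype.card F : ℤ) := Or.inl ⟨rfl, rfl⟩

theorem exists_sgM : ∃ r : F, SgD r (-(Fintype.card F : ℤ)) := by
  obtain ⟨r, hr⟩ := exists_ani (F := F)
  exact ⟨r, Or.inr ⟨hr, rfl⟩⟩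

/-- Every listed order is attained on a quadratic space of minus type. -/
theorem real_of_isL {N : ℕ} (hN : IsL (Fintype.card F) N) :
    ∃ p, Real F 4 (-(Fintype.card F : ℤ) ^ 4) N p False := by
  have hq : Even (Fintype.card F) := even_card
  have h2 : 2 ≤ Fintype.card F := Fintype.one_lt_card
  obtain ⟨r, hr⟩ := exists_sgM (F := F)
  have hr0 := sgP (F := F)
  set q := Fintype.card F with hqdef
  have hF : ∀ h : False, (False ∧ False) := fun h => h.elim
  rcases hN with rfl | rfl | rfl | rfl | rfl | rfl | rfl | rfl | rfl | rfl | rfl | rfl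
  · exact ⟨0, at_minus 4 (by norm_num)⟩
  · refine ⟨0 + 0, ((at_minus (F := F) 2 (by norm_num)).sumC (at_plus 2 (by norm_num)) (cop_two_two hq h2).symm
      (fun h => h.elim)).congr rfl (by ring) ?_⟩
    rw [qu1 h2, mul_comm]
  · refine ⟨0 + 0, ((at_plus (F := F) 3 (by norm_num)).sumC (at_minus 1 (by norm_num)) (by simpa using cop_three_m hq h2)
      (fun h => h.elim)).congr rfl (by ring) (by simp [hqdef])⟩
  · refine ⟨0 + 0, ((at_minus (F := F) 3 (by norm_num)).sumC (at_plus 1 (by norm_num)) (by simpa using cop_three_p hq h2)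
      (fun h => h.elim)).congr rfl (by ring) (by simp [hqdef])⟩
  · refine ⟨0 + 1, ((at_plus (F := F) 3 (by norm_num)).sumC (at_J2 hr) (by
        simpa using cop_odd_two (odd_pm hq h2 (d := 3) (by norm_num)) 1) (fun h => h.elim)).congr rfl (by ring) (by ring)⟩
  · refine ⟨0 + 1, ((at_minus (F := F) 3 (by norm_num)).sumC (at_J2 hr0) (by
        simpa using cop_odd_two (odd_pp hq h2 (d := 3) (by norm_num)) 1) (fun h => h.elim)).congr rfl (by ring) (by ring)⟩
  · have h1 := (at_minus (F := F) 2 (by norm_num)).sumC (at_minus 1 (by norm_num))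
      (by simpa using cop_sq_p hq h2) (b := False) (fun h => h.elim)
    have hodd : Odd ((q ^ 2 + 1) * (q ^ 1 + 1)) :=
      (odd_pp hq h2 (by norm_num)).mul (odd_pp hq h2 (by norm_num))
    refine ⟨0 + 0 + 1, (h1.sumC (at_J2 hr) (by simpa using cop_odd_two hodd 1) (fun h => h.elim)).congr rfl (by ring) ?_⟩
    simp only [pow_one]
    ring
  · have h1 := (at_minus (F := F) 2 (by norm_num)).sumC (at_plus 1 (by norm_num))
      (by simpa using cop_sq_m hq h2) (b := False) (fun h => h.elim)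
    have hodd : Odd ((q ^ 2 + 1) * (q ^ 1 - 1)) :=
      (odd_pp hq h2 (by norm_num)).mul (odd_pm hq h2 (by norm_num))
    refine ⟨0 + 0 + 1, (h1.sumC (at_J2 hr0) (by simpa using cop_odd_two hodd 1) (fun h => h.elim)).congr rfl (by ring) ?_⟩
    simp only [pow_one]
    ring
  · refine ⟨0 + 1, ((at_minus (F := F) 2 (by norm_num)).sumC (at_J4 hr0) (by
        simpa using cop_odd_two (odd_pp hq h2 (d := 2) (by norm_num)) 2) (fun h => h.elim)).congr rfl (by ring) (by ring)⟩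
  · refine ⟨0 + 1, ((at_plus (F := F) 2 (by norm_num)).sumC (at_J4 hr) (by
        simpa using cop_odd_two (odd_pm hq h2 (d := 2) (by norm_num)) 2) (fun h => h.elim)).congr rfl (by ring) (by ring)⟩
  · refine ⟨0 + 1, ((at_minus (F := F) 1 (by norm_num)).sumC (at_J6 hr0) (by
        simpa using cop_odd_two (odd_pp hq h2 (d := 1) (by norm_num)) 3) (fun h => h.elim)).congr rfl (by ring) ?_⟩
    simp only [pow_one]
    ring
  · refine ⟨0 + 1, ((at_plus (F := F) 1 (by norm_num)).sumC (at_J6 hr) (by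
        simpa using cop_odd_two (odd_pm hq h2 (d := 1) (by norm_num)) 3) (fun h => h.elim)).congr rfl (by ring) ?_⟩
    simp only [pow_one]
    ring

/-- From the orthogonal group to the symplectic group: orders are preserved. -/
theorem exists_psp_of_form (Q₀ : QuadraticForm F ((Fin 3 ⊕ Fin 3) ⊕ Fin 2 → F)) (hQ : PolarNondeg Q₀)
    (g : ↥(isometryGroup F (⇑Q₀))) : ∃ z : Cfsg.PSp 4 F, orderOf z = orderOf g := by
  have htwo : (2 : F) = 0 := two_F'
  have hA : (polarBilin Q₀).IsAlt := by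
    intro x
    rw [polarBilin_apply_apply, QuadraticMap.polar_self]
    simp [htwo]
  have hB : (polarBilin Q₀).Nondegenerate := nondeg_of_polarNondeg Q₀ hQ
  have hdim : finrank F ((Fin 3 ⊕ Fin 3) ⊕ Fin 2 → F) = 2 * 4 := by
    simp
  have hT : ∀ u v, polarBilin Q₀ (Mat Q₀ g u) (Mat Q₀ g v) = polarBilin Q₀ u v := by
    intro u v
    rw [polarBilin_apply_apply, polarBilin_apply_apply]
    exact polar_act g u v
  obtain ⟨A, hAp⟩ := exists_sp_of_isometry (polarBilin Q₀) hA hB hdim (Mat Q₀ g) hT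
  refine ⟨QuotientGroup.mk A, order_eq_of_iff _ _ fun t => ?_⟩
  rw [psp_pow_eq_one_iff (by norm_num)]
  have hneg : (-1 : Matrix (Fin 4 ⊕ Fin 4) (Fin 4 ⊕ Fin 4) F) = 1 := by
    rw [← neg_one_smul F (1 : Matrix (Fin 4 ⊕ Fin 4) (Fin 4 ⊕ Fin 4) F)]
    have h1 : (-1 : F) = 1 := by linear_combination (-1 : F) * htwo
    rw [h1, one_smul]
  rw [hneg, or_self]
  have h1 := hAp t 1
  rw [one_smul, one_smul] at h1
  rw [h1, Mat_pow_eq_one_iff, orderOf_dvd_iff_pow_eq_one]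

/-- **The spectra of `Sp₈(q)` and `GO⁻₈(q)`, `q` even.** -/
theorem range_eq_isL {a b : F} (hab : ∀ z₁ z₂ : F, z₁ ^ 2 + a * z₁ * z₂ + b * z₂ ^ 2 = 0 → z₁ = 0 ∧ z₂ = 0) :
    Set.range (orderOf : Cfsg.PSp 4 F → ℕ) = Set.range (orderOf : ↥(isometryGroup F (quadFormMinus 3 F a b)) → ℕ) := by
  ext n
  constructor
  · rintro ⟨z, rfl⟩
    obtain ⟨N, hN, hd⟩ := psp_order_dvd z
    obtain ⟨p, hp⟩ := real_of_isL hN
    obtain ⟨g, hg⟩ := Cfsg.Agent.Lib.SpEight.real_to_order hab hp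
    subst hg
    exact ⟨g ^ (orderOf g / orderOf z), orderOf_pow_orderOf_div (orderOf_pos g).ne' hd⟩
  · rintro ⟨g, rfl⟩
    exact exists_psp_of_form (minusQ 3 F a b) (polarNondeg_minusQ 3 hab) g

end Cfsg.Agent.Lib.SpEight
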