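import Mathlib

/-!
# Self-reciprocal polynomials over a finite field of characteristic two

A monic self-reciprocal polynomial without the root `1` is a product of blocks: an irreducible
self-reciprocal factor of degree `2 d`, whose root has order dividing `q ^ d + 1`, or a pair `f * f*` of
degree `2 d`, whose roots have order dividing `q ^ d - 1`.
-/

set_option autoImplicit false
set_option linter.unusedSectionVars false
set_option linter.unusedVariables false
set_option linter.unusedSimpArgs false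

namespace Cfsg.Agent.Lib.SpEight

open Polynomial Module

variable {F : Type*} [Field F]

/-- A polynomial equal to its reverse up to a unit. -/
def SelfRec (f : F[X]) : Prop := ∃ c : F, c ≠ 0 ∧ f.reverse = C c * f

theorem natTrailingDegree_eq_zero_of_coeff {f : F[X]} (h : f.coeff 0 ≠ 0) : f.natTrailingDegree = 0 :=
  natTrailingDegree_eq_zero.2 (Or.inr h)

theorem natDegree_reverse_of_coeff {f : F[X]} (h : f.coeff 0 ≠ 0) : f.reverse.natDegree = f.natDegree := by
  rw [reverse_natDegree, natTrailingDegree_eq_zero_of_coeff h, Nat.sub_zero]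

theorem reverse_reverse_of_coeff {f : F[X]} (h : f.coeff 0 ≠ 0) : f.reverse.reverse = f := by
  ext n
  rw [coeff_reverse, coeff_reverse, natDegree_reverse_of_coeff h]
  by_cases hn : n ≤ f.natDegree
  · rw [revAt_le hn, revAt_le (Nat.sub_le _ _), Nat.sub_sub_self hn]
  · push Not at hn
    rw [revAt_eq_self_of_lt hn, revAt_eq_self_of_lt hn]

theorem coeff_zero_reverse_ne {f : F[X]} (h : f ≠ 0) : f.reverse.coeff 0 ≠ 0 := by
  rw [coeff_zero_reverse]
  exact leadingCoeff_ne_zero.2 h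

theorem reverse_C_mul (c : F) (f : F[X]) : (C c * f).reverse = C c * f.reverse := by
  rw [reverse_mul_of_domain]
  congr 1
  rw [reverse, reflect_C]
  simp

/-- The monic reciprocal polynomial. -/
noncomputable def mrev (f : F[X]) : F[X] := C (f.coeff 0)⁻¹ * f.reverse

theorem mrev_monic {f : F[X]} (h : f.coeff 0 ≠ 0) : (mrev f).Monic := by
  have h1 : f.reverse.leadingCoeff = f.coeff 0 := by
    rw [reverse_leadingCoeff, trailingCoeff, natTrailingDegree_eq_zero_of_coeff h]
  unfold Monic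
  rw [mrev, leadingCoeff_mul, leadingCoeff_C, h1, inv_mul_cancel₀ h]

theorem mrev_natDegree {f : F[X]} (h : f.coeff 0 ≠ 0) : (mrev f).natDegree = f.natDegree := by
  rw [mrev, natDegree_C_mul (inv_ne_zero h), natDegree_reverse_of_coeff h]

theorem reverse_eq_C_mul_mrev {f : F[X]} (h : f.coeff 0 ≠ 0) : f.reverse = C (f.coeff 0) * mrev f := by
  rw [mrev, ← mul_assoc, ← C_mul, mul_inv_cancel₀ h, C_1, one_mul]

theorem mrev_coeff_zero {f : F[X]} (hf : f ≠ 0) (h : f.coeff 0 ≠ 0) : (mrev f).coeff 0 ≠ 0 := by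
  rw [mrev, coeff_C_mul]
  exact mul_ne_zero (inv_ne_zero h) (coeff_zero_reverse_ne hf)

theorem reverse_mrev {f : F[X]} (h : f.coeff 0 ≠ 0) : (mrev f).reverse = C (f.coeff 0)⁻¹ * f := by
  rw [mrev, reverse_C_mul, reverse_reverse_of_coeff h]

theorem irreducible_reverse {f : F[X]} (hf : Irreducible f) (h : f.coeff 0 ≠ 0) : Irreducible f.reverse := by
  have hf0 : f ≠ 0 := hf.ne_zero
  refine ⟨?_, ?_⟩
  · intro hu
    have h1 : f.reverse.natDegree = 0 := natDegree_eq_zero_of_isUnit hu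
    rw [natDegree_reverse_of_coeff h] at h1
    exact hf.natDegree_pos.ne' h1
  · intro g₁ g₂ hg
    have hr : f = g₁.reverse * g₂.reverse := by
      rw [← reverse_mul_of_domain, ← hg, reverse_reverse_of_coeff h]
    have h0 : (f.reverse).coeff 0 ≠ 0 := coeff_zero_reverse_ne hf0
    rw [hg, mul_coeff_zero] at h0
    have h1 : g₁.coeff 0 ≠ 0 := left_ne_zero_of_mul h0
    have h2 : g₂.coeff 0 ≠ 0 := right_ne_zero_of_mul h0
    have h3 : g₁ ≠ 0 := fun e => h1 (by simp [e])
    have h4 : g₂ ≠ 0 := fun e => h2 (by simp [e])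
    rcases hf.isUnit_or_isUnit hr with hu | hu
    · left
      have h5 : g₁.reverse.natDegree = 0 := natDegree_eq_zero_of_isUnit hu
      rw [natDegree_reverse_of_coeff h1] at h5
      rw [eq_C_of_natDegree_eq_zero h5]
      apply isUnit_C.2
      apply IsUnit.mk0
      intro e
      apply h3
      rw [eq_C_of_natDegree_eq_zero h5, e, C_0]
    · right
      have h5 : g₂.reverse.natDegree = 0 := natDegree_eq_zero_of_isUnit hu
      rw [natDegree_reverse_of_coeff h2] at h5
      rw [eq_C_of_natDegree_eq_zero h5]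
      apply isUnit_C.2
      apply IsUnit.mk0
      intro e
      apply h4
      rw [eq_C_of_natDegree_eq_zero h5, e, C_0]

theorem mrev_irreducible {f : F[X]} (hf : Irreducible f) (h : f.coeff 0 ≠ 0) : Irreducible (mrev f) := by
  rw [mrev]
  have hu : IsUnit (C (f.coeff 0)⁻¹ : F[X]) := isUnit_C.2 (IsUnit.mk0 _ (inv_ne_zero h))
  exact (irreducible_isUnit_mul hu).2 (irreducible_reverse hf h)

/-- Divisibility via the root in the stem field. -/
theorem dvd_X_pow_sub_one_iff {f : F[X]} (n : ℕ) : f ∣ X ^ n - 1 ↔ (AdjoinRoot.root f) ^ n = 1 := by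
  rw [← AdjoinRoot.mk_eq_zero, map_sub, map_pow, AdjoinRoot.mk_X, map_one, sub_eq_zero]

variable [Fintype F]

section Stem

variable {f : F[X]} [hf : Fact (Irreducible f)]

theorem finiteDim_adjoin : Module.Finite F (AdjoinRoot f) := (AdjoinRoot.powerBasis hf.out.ne_zero).finite

theorem finite_adjoin : Finite (AdjoinRoot f) :=
  haveI : Module.Finite F (AdjoinRoot f) := finiteDim_adjoin
  Module.finite_of_finite F

theorem finrank_adjoin' : finrank F (AdjoinRoot f) = f.natDegree := finrank_quotient_span_eq_natDegree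

theorem frobHom_pow_apply' [Finite (AdjoinRoot f)] (d : ℕ) (b : AdjoinRoot f) :
    ((FiniteField.frobeniusAlgHom F (AdjoinRoot f)) ^ d) b = b ^ (Fintype.card F ^ d) := by
  induction d with
  | zero => simp
  | succ d ih =>
    rw [pow_succ', AlgHom.mul_apply, ih, pow_succ, pow_mul]
    simp

theorem root_pow_card (b : AdjoinRoot f) : b ^ (Fintype.card F ^ f.natDegree) = b := by
  haveI : Finite (AdjoinRoot f) := finite_adjoin
  haveI : Module.Finite F (AdjoinRoot f) := finiteDim_adjoin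
  letI := Fintype.ofFinite (AdjoinRoot f)
  rw [← finrank_adjoin' (f := f), ← Module.card_eq_pow_finrank (K := F) (V := AdjoinRoot f)]
  exact FiniteField.pow_card b

end Stem

/-- An irreducible polynomial other than `X` divides `X ^ (q ^ deg - 1) - 1`. -/
theorem irr_dvd_pow_sub_one {f : F[X]} (hf : Irreducible f) (h0 : f.coeff 0 ≠ 0) :
    f ∣ X ^ (Fintype.card F ^ f.natDegree - 1) - 1 := by
  haveI : Fact (Irreducible f) := ⟨hf⟩
  rw [dvd_X_pow_sub_one_iff]
  have hq : 1 ≤ Fintype.card F ^ f.natDegree := Nat.pos_of_ne_zero (pow_ne_zero _ Fintype.card_ne_zero)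
  have h1 := root_pow_card (f := f) (AdjoinRoot.root f)
  have hr : AdjoinRoot.root f ≠ 0 := by
    intro e
    have h2 : f ∣ X := by
      rw [← AdjoinRoot.mk_eq_zero, AdjoinRoot.mk_X, e]
    obtain ⟨g, hg⟩ := h2
    have h3 := congrArg (fun p : F[X] => p.coeff 0) hg
    simp only [coeff_X_zero, mul_coeff_zero] at h3
    have h4 : f.eval 0 ≠ 0 := by
      rwa [← coeff_zero_eq_eval_zero]
    have h5 : g.coeff 0 = 0 := by
      have := h3.symm
      exact (mul_eq_zero.1 this).resolve_left h0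
    have h6 : X ∣ g := X_dvd_iff.2 h5
    obtain ⟨g', rfl⟩ := h6
    have h7 : f * g' = 1 := by
      have : X * 1 = X * (f * g') := by
        rw [mul_one]
        calc (X : F[X]) = f * (X * g') := hg
          _ = _ := by ring
      exact (mul_left_cancel₀ X_ne_zero this).symm
    exact hf.not_isUnit (IsUnit.of_mul_eq_one _ h7)
  have h2 : AdjoinRoot.root f ^ (Fintype.card F ^ f.natDegree - 1) * AdjoinRoot.root f = AdjoinRoot.root f := by
    rw [← pow_succ, Nat.sub_add_cancel hq, h1]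
  exact mul_right_cancel₀ hr (by rw [h2, one_mul])

/-- The self-dual case. -/
theorem selfDual_half [CharP F 2] {f : F[X]} (hf : Irreducible f) (h0 : f.coeff 0 ≠ 0) (hm : mrev f = f)
    (hc : IsCoprime f (X - 1)) :
    ∃ d : ℕ, 1 ≤ d ∧ f.natDegree = 2 * d ∧ f ∣ X ^ (Fintype.card F ^ d + 1) - 1 := by
  classical
  haveI : Fact (Irreducible f) := ⟨hf⟩
  haveI : Finite (AdjoinRoot f) := finite_adjoin
  haveI : Module.Finite F (AdjoinRoot f) := finiteDim_adjoin
  set ρ := AdjoinRoot.root f with hρdef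
  have hρ0 : ρ ≠ 0 := by
    intro e
    have h1 := irr_dvd_pow_sub_one hf h0
    rw [dvd_X_pow_sub_one_iff, ← hρdef, e] at h1
    by_cases hd : Fintype.card F ^ f.natDegree - 1 = 0
    · -- impossible as the degree is positive
      have h2 : 1 < Fintype.card F ^ f.natDegree :=
        Nat.one_lt_pow hf.natDegree_pos.ne' Fintype.one_lt_card
      omega
    · rw [zero_pow hd] at h1
      exact zero_ne_one h1
  have hρ1 : ρ ≠ 1 := by
    intro e
    obtain ⟨u, v, huv⟩ := hc
    have h1 : f ∣ X - 1 := by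
      rw [← AdjoinRoot.mk_eq_zero, map_sub, AdjoinRoot.mk_X, map_one, ← hρdef, e, sub_self]
    have h2 : f ∣ 1 := by
      rw [← huv]
      exact dvd_add (dvd_mul_left _ _) (h1.mul_left _)
    exact hf.not_isUnit (isUnit_of_dvd_one h2)
  have h2F : (2 : AdjoinRoot f) = 0 := by
    have h2F0 : (2 : F) = 0 := by
      have := CharP.cast_eq_zero F 2
      simpa using this
    have h3 : (algebraMap F (AdjoinRoot f)) 2 = 0 := by rw [h2F0, map_zero]
    rwa [map_ofNat] at h3
  have hρ2 : ρ ^ 2 ≠ 1 := by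
    intro e
    apply hρ1
    have h1 : (ρ - 1) ^ 2 = 0 := by
      linear_combination e + (1 - ρ) * h2F
    have := pow_eq_zero_iff (two_ne_zero) |>.1 h1
    exact sub_eq_zero.1 this
  -- the inverse is a root
  have hrootinv : aeval ρ⁻¹ f = 0 := by
    letI : Invertible ρ := invertibleOfNonzero hρ0
    have h1 : eval₂ (algebraMap F (AdjoinRoot f)) ρ f = 0 := by
      have := AdjoinRoot.eval₂_root f
      exact this
    have h3 := (eval₂_reverse_eq_zero_iff (algebraMap F (AdjoinRoot f)) ρ f).2 h1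
    rw [invOf_eq_inv] at h3
    rw [aeval_def]
    have h4 : f = C (f.coeff 0)⁻¹ * f.reverse := hm.symm
    have h5 : eval₂ (algebraMap F (AdjoinRoot f)) ρ⁻¹ (C (f.coeff 0)⁻¹ * f.reverse) = 0 := by
      rw [eval₂_mul, h3, mul_zero]
    rwa [← h4] at h5
  let σ : AdjoinRoot f →ₐ[F] AdjoinRoot f := AdjoinRoot.liftAlgHom f (Algebra.ofId F _) ρ⁻¹ hrootinv
  have hσ : σ ρ = ρ⁻¹ := AdjoinRoot.liftAlgHom_root _ _ _ _
  have hfr : finrank F (AdjoinRoot f) = f.natDegree := finrank_adjoin' (f := f)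
  obtain ⟨⟨j, hjlt⟩, hj⟩ := (FiniteField.bijective_frobeniusAlgHom_pow F (AdjoinRoot f)).2 σ
  simp only at hj
  have hj1 : ρ ^ (Fintype.card F ^ j) = ρ⁻¹ := by
    rw [← hσ, ← hj, frobHom_pow_apply']
  have hj2 : ρ ^ (Fintype.card F ^ j + 1) = 1 := by
    rw [pow_succ, hj1, inv_mul_cancel₀ hρ0]
  have hj0 : j ≠ 0 := by
    rintro rfl
    have h1 : ρ ^ 2 = 1 := by simpa using hj2
    exact hρ2 h1
  have hone : (FiniteField.frobeniusAlgHom F (AdjoinRoot f)) ^ (2 * j) = 1 := by
    apply AdjoinRoot.algHom_ext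
    rw [frobHom_pow_apply', AlgHom.one_apply]
    have : Fintype.card F ^ (2 * j) = Fintype.card F ^ j * Fintype.card F ^ j := by
      rw [two_mul, pow_add]
    rw [this, pow_mul, ← hρdef, hj1, inv_pow, hj1, inv_inv]
  have hdvd : finrank F (AdjoinRoot f) ∣ 2 * j := by
    rw [← FiniteField.orderOf_frobeniusAlgHom]
    exact orderOf_dvd_of_pow_eq_one hone
  have hjlt' : j < finrank F (AdjoinRoot f) := hjlt
  obtain ⟨c, hc'⟩ := hdvd
  have hc1 : c = 1 := by
    have hc0 : c ≠ 0 := by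
      rintro rfl
      omega
    have hc2 : c < 2 := by
      by_contra hge
      have h2 : 2 ≤ c := by omega
      have h3 : finrank F (AdjoinRoot f) * 2 ≤ finrank F (AdjoinRoot f) * c := Nat.mul_le_mul_left _ h2
      omega
    omega
  refine ⟨j, by omega, ?_, (dvd_X_pow_sub_one_iff _).2 hj2⟩
  rw [hc1, mul_one] at hc'
  rw [← hfr, hc']

/-- The exponent attached to a block. -/
def tv (q d : ℕ) (ε : Bool) : ℕ := if ε then q ^ d - 1 else q ^ d + 1

@[simp] theorem tv_true (q d : ℕ) : tv q d true = q ^ d - 1 := rfl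
@[simp] theorem tv_false (q d : ℕ) : tv q d false = q ^ d + 1 := rfl

/-- A block of half degree `d`. -/
structure IsBlock (q : ℕ) (B : F[X]) (d : ℕ) (ε : Bool) : Prop where
  monic : B.Monic
  deg : B.natDegree = 2 * d
  pos : 1 ≤ d
  dvd : B ∣ X ^ tv q d ε - 1
  cop : IsCoprime B (X - 1)

/-- A block splits off. -/
theorem exists_block_factor [CharP F 2] {ψ : F[X]} (hm : ψ.Monic) (hrec : SelfRec ψ) (h0 : ψ.coeff 0 ≠ 0)
    (hc : IsCoprime ψ (X - 1)) (hdeg : 0 < ψ.natDegree) :
    ∃ (B : F[X]) (d : ℕ) (ε : Bool) (ψ' : F[X]), ψ = B * ψ' ∧ IsBlock (Fintype.card F) B d ε ∧ ψ'.Monic ∧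
      SelfRec ψ' ∧ ψ'.coeff 0 ≠ 0 ∧ IsCoprime ψ' (X - 1) := by
  classical
  have hnu : ¬ IsUnit ψ := fun hu => hdeg.ne' (natDegree_eq_zero_of_isUnit hu)
  obtain ⟨f, hfm, hfi, hfd⟩ := exists_monic_irreducible_factor ψ hnu
  obtain ⟨c₀, hc₀, hrev⟩ := hrec
  have hf0 : f.coeff 0 ≠ 0 := by
    obtain ⟨g, hg⟩ := hfd
    rw [hg, mul_coeff_zero] at h0
    exact left_ne_zero_of_mul h0
  have hfc : IsCoprime f (X - 1) := by
    obtain ⟨g, hg⟩ := hfd
    rw [hg] at hc
    exact IsCoprime.of_mul_left_left hc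
  have hf'm := mrev_monic hf0
  have hf'i := mrev_irreducible hfi hf0
  have hf'd : mrev f ∣ ψ := by
    have h1 : f.reverse ∣ ψ.reverse := by
      obtain ⟨g, hg⟩ := hfd
      rw [hg, reverse_mul_of_domain]
      exact dvd_mul_right _ _
    rw [hrev] at h1
    have h2 : mrev f ∣ f.reverse := by
      rw [reverse_eq_C_mul_mrev hf0]
      exact dvd_mul_left _ _
    have h3 : mrev f ∣ C c₀ * ψ := h2.trans h1
    exact (isUnit_C.2 (IsUnit.mk0 _ hc₀)).dvd_mul_left.1 h3
  have hf'c : IsCoprime (mrev f) (X - 1) := by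
    obtain ⟨g, hg⟩ := hf'd
    rw [hg] at hc
    exact IsCoprime.of_mul_left_left hc
  have hf'0 := mrev_coeff_zero hfi.ne_zero hf0
  -- the block and its self-reciprocity
  suffices hmain : ∃ (B : F[X]) (d : ℕ) (ε : Bool), B ∣ ψ ∧ IsBlock (Fintype.card F) B d ε ∧ SelfRec B by
    obtain ⟨B, d, ε, ⟨ψ', hψ'⟩, hB, c₁, hc₁, hrB⟩ := hmain
    have hB0 : B ≠ 0 := hB.monic.ne_zero
    refine ⟨B, d, ε, ψ', hψ', hB, ?_, ?_, ?_, ?_⟩
    · apply Monic.of_mul_monic_left hB.monic
      rw [← hψ']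
      exact hm
    · refine ⟨c₀ / c₁, div_ne_zero hc₀ hc₁, ?_⟩
      have h1 : B * (C c₁ * ψ'.reverse) = B * (C c₀ * ψ') := by
        have h2 := hrev
        rw [hψ', reverse_mul_of_domain, hrB] at h2
        linear_combination h2
      have h3 := mul_left_cancel₀ hB0 h1
      have h4 : (C c₁ : F[X]) * ψ'.reverse = C c₁ * (C (c₀ / c₁) * ψ') := by
        rw [h3, ← mul_assoc, ← C_mul, mul_div_cancel₀ _ hc₁]
      exact mul_left_cancel₀ (C_ne_zero.2 hc₁) h4
    · rw [hψ', mul_coeff_zero] at h0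
      exact right_ne_zero_of_mul h0
    · rw [hψ'] at hc
      exact IsCoprime.of_mul_left_right hc
  by_cases hsd : mrev f = f
  · obtain ⟨d, hd1, hd2, hd3⟩ := selfDual_half hfi hf0 hsd hfc
    refine ⟨f, d, false, hfd, ⟨hfm, hd2, hd1, hd3, hfc⟩, f.coeff 0, hf0, ?_⟩
    rw [reverse_eq_C_mul_mrev hf0, hsd]
  · have hcop : IsCoprime f (mrev f) := by
      rw [hfi.coprime_iff_not_dvd]
      intro hdvd
      apply hsd
      exact (eq_of_monic_of_associated hfm hf'm (hfi.associated_of_dvd hf'i hdvd)).symm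
    have hdvd1 := irr_dvd_pow_sub_one hfi hf0
    have hdvd2 := irr_dvd_pow_sub_one hf'i hf'0
    rw [mrev_natDegree hf0] at hdvd2
    refine ⟨f * mrev f, f.natDegree, true, hcop.mul_dvd hfd hf'd, ⟨hfm.mul hf'm, ?_, hfi.natDegree_pos, ?_, ?_⟩,
      1, one_ne_zero, ?_⟩
    · rw [hfm.natDegree_mul hf'm, mrev_natDegree hf0]
      ring
    · exact hcop.mul_dvd hdvd1 hdvd2
    · exact IsCoprime.mul_left hfc hf'c
    · rw [reverse_mul_of_domain, reverse_mrev hf0, reverse_eq_C_mul_mrev hf0, C_1, one_mul]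
      have hc : (C (f.coeff 0) * C (f.coeff 0)⁻¹ : F[X]) = 1 := by
        rw [← C_mul, mul_inv_cancel₀ hf0, C_1]
      calc C (f.coeff 0) * mrev f * (C (f.coeff 0)⁻¹ * f) = (C (f.coeff 0) * C (f.coeff 0)⁻¹) * (f * mrev f) := by ring
        _ = _ := by rw [hc, one_mul]

/-- The product of a list of blocks. -/
noncomputable def prodB (l : List (F[X] × ℕ × Bool)) : F[X] := (l.map (·.1)).prod

omit [Fintype F] in
@[simp] theorem prodB_nil : prodB ([] : List (F[X] × ℕ × Bool)) = 1 := rfl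
omit [Fintype F] in
@[simp] theorem prodB_cons (t : F[X] × ℕ × Bool) (l : List (F[X] × ℕ × Bool)) : prodB (t :: l) = t.1 * prodB l := by
  simp [prodB]

/-- The decomposition into blocks. -/
theorem exists_blocks [CharP F 2] (n : ℕ) : ∀ ψ : F[X], ψ.natDegree = n → ψ.Monic → SelfRec ψ → ψ.coeff 0 ≠ 0 →
    IsCoprime ψ (X - 1) → ∃ l : List (F[X] × ℕ × Bool),
      (∀ t ∈ l, IsBlock (Fintype.card F) t.1 t.2.1 t.2.2) ∧ ψ = prodB l ∧ n = 2 * (l.map (·.2.1)).sum := by
  induction n using Nat.strong_induction_on with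
  | _ n ih =>
    intro ψ hn hm hrec h0 hc
    by_cases hdeg : 0 < ψ.natDegree
    · obtain ⟨B, d, ε, ψ', he, hB, hm', hrec', h0', hc'⟩ := exists_block_factor hm hrec h0 hc hdeg
      have hdg : ψ.natDegree = 2 * d + ψ'.natDegree := by
        rw [he, hB.monic.natDegree_mul hm', hB.deg]
      have hd1 := hB.pos
      obtain ⟨l, h1, h2, h3⟩ := ih ψ'.natDegree (by omega) ψ' rfl hm' hrec' h0' hc'
      refine ⟨(B, d, ε) :: l, ?_, ?_, ?_⟩
      · intro t ht
        rcases List.mem_cons.1 ht with rfl | ht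
        · exact hB
        · exact h1 t ht
      · rw [prodB_cons, ← h2]
        exact he
      · simp only [List.map_cons, List.sum_cons]
        omega
    · have hd0 : ψ.natDegree = 0 := by omega
      have h1 : ψ = 1 := by
        rw [eq_C_of_natDegree_eq_zero hd0]
        have := hm.coeff_natDegree
        rw [hd0] at this
        rw [this, C_1]
      refine ⟨[], by simp, by simp [h1], by simp; omega⟩

end Cfsg.Agent.Lib.SpEight
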