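import Cfsg.Agent.Lib.SpEight.Recip

/-!
# The table of exponents for self-reciprocal polynomials of degree eight
-/

set_option autoImplicit false
set_option linter.unusedSectionVars false
set_option linter.unusedVariables false
set_option linter.unusedSimpArgs false

namespace Cfsg.Agent.Lib.SpEight

open Polynomial Module

/-- The list of maximal element orders of `Sp₈(q)`, `q` even. -/
def IsL (q N : ℕ) : Prop :=
  N = q ^ 4 + 1 ∨ N = q ^ 4 - 1 ∨ N = (q ^ 3 - 1) * (q + 1) ∨ N = (q ^ 3 + 1) * (q - 1) ∨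
  N = 2 * (q ^ 3 - 1) ∨ N = 2 * (q ^ 3 + 1) ∨ N = 2 * ((q ^ 2 + 1) * (q + 1)) ∨ N = 2 * ((q ^ 2 + 1) * (q - 1)) ∨
  N = 4 * (q ^ 2 + 1) ∨ N = 4 * (q ^ 2 - 1) ∨ N = 8 * (q + 1) ∨ N = 8 * (q - 1)

section Arith

variable {q : ℕ}

theorem tv_odd (hq : Even q) (h2 : 2 ≤ q) {d : ℕ} (hd : 1 ≤ d) (ε : Bool) : Odd (tv q d ε) := by
  have h1 : Even (q ^ d) := (Nat.even_pow.2 ⟨hq, by omega⟩)
  have h3 : 1 ≤ q ^ d := Nat.one_le_pow _ _ (by omega)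
  cases ε
  · simpa using h1.add_one
  · simpa using Nat.Even.sub_odd h3 h1 odd_one

theorem sq1 (h2 : 2 ≤ q) : q ^ 2 - 1 = (q - 1) * (q + 1) := by
  obtain ⟨r, rfl⟩ : ∃ r, q = r + 1 := ⟨q - 1, by omega⟩
  simp only [Nat.add_sub_cancel]
  apply Nat.sub_eq_of_eq_add
  ring

theorem qu1 (h2 : 2 ≤ q) : q ^ 4 - 1 = (q ^ 2 - 1) * (q ^ 2 + 1) := by
  have h3 : 1 ≤ q ^ 2 := Nat.one_le_pow _ _ (by omega)
  obtain ⟨r, hr⟩ : ∃ r, q ^ 2 = r + 1 := ⟨q ^ 2 - 1, by omega⟩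
  rw [show q ^ 4 = (q ^ 2) ^ 2 by ring, hr]
  simp only [Nat.add_sub_cancel]
  apply Nat.sub_eq_of_eq_add
  ring

theorem dvd_one_sq (h2 : 2 ≤ q) (ε : Bool) : tv q 1 ε ∣ q ^ 2 - 1 := by
  rw [sq1 h2]
  cases ε
  · simp
  · simp

theorem dvd_one_three (h2 : 2 ≤ q) (ε : Bool) : tv q 1 ε ∣ tv q 3 ε := by
  obtain ⟨r, rfl⟩ : ∃ r, q = r + 1 := ⟨q - 1, by omega⟩
  cases ε
  · refine ⟨r ^ 2 + r + 1, ?_⟩
    simp only [tv_false]
    ring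
  · refine ⟨(r + 1) ^ 2 + (r + 1) + 1, ?_⟩
    simp only [tv_true]
    apply Nat.sub_eq_of_eq_add
    simp only [pow_one, Nat.add_sub_cancel]
    ring

theorem cop_aux {a b c : ℕ} (ha : Odd a) (h : a + 2 = b * c) : Nat.Coprime a b := by
  have h1 : Nat.gcd a b ∣ 2 := by
    have h3 : Nat.gcd a b ∣ a + 2 := by
      rw [h]
      exact (Nat.gcd_dvd_right a b).mul_right c
    exact (Nat.dvd_add_right (Nat.gcd_dvd_left a b)).1 h3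
  have h3 : Odd (Nat.gcd a b) := Odd.of_dvd_nat ha (Nat.gcd_dvd_left a b)
  have h4 := Nat.le_of_dvd (by norm_num) h1
  have h5 := Nat.pos_of_dvd_of_pos h1 (by norm_num)
  have h6 : Nat.gcd a b = 1 ∨ Nat.gcd a b = 2 := by omega
  rcases h6 with h6 | h6
  · exact h6
  · rw [h6] at h3
    exact absurd h3 (by decide)

theorem cop_aux' {a b c : ℕ} (ha : Odd a) (h : a = b * c + 2) : Nat.Coprime a b := by
  have h1 : Nat.gcd a b ∣ 2 := by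
    have h3 : Nat.gcd a b ∣ b * c + 2 := by
      rw [← h]
      exact Nat.gcd_dvd_left a b
    exact (Nat.dvd_add_right ((Nat.gcd_dvd_right a b).mul_right c)).1 h3
  have h3 : Odd (Nat.gcd a b) := Odd.of_dvd_nat ha (Nat.gcd_dvd_left a b)
  have h4 := Nat.le_of_dvd (by norm_num) h1
  have h5 := Nat.pos_of_dvd_of_pos h1 (by norm_num)
  have h6 : Nat.gcd a b = 1 ∨ Nat.gcd a b = 2 := by omega
  rcases h6 with h6 | h6
  · exact h6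
  · rw [h6] at h3
    exact absurd h3 (by decide)

theorem cop_one_one (hq : Even q) (h2 : 2 ≤ q) : Nat.Coprime (q - 1) (q + 1) := by
  have h3 := tv_odd hq h2 (d := 1) le_rfl true
  simp only [tv_true, pow_one] at h3
  refine cop_aux h3 (c := 1) ?_
  omega

theorem cop_two_two (hq : Even q) (h2 : 2 ≤ q) : Nat.Coprime (q ^ 2 - 1) (q ^ 2 + 1) := by
  have h3 := tv_odd hq h2 (d := 2) (by norm_num) true
  simp only [tv_true] at h3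
  have h4 : 1 ≤ q ^ 2 := Nat.one_le_pow _ _ (by omega)
  refine cop_aux h3 (c := 1) ?_
  omega

theorem cop_three_m (hq : Even q) (h2 : 2 ≤ q) : Nat.Coprime (q ^ 3 - 1) (q + 1) := by
  have h3 := tv_odd hq h2 (d := 3) (by norm_num) true
  simp only [tv_true] at h3
  have h4 : 1 ≤ q ^ 3 := Nat.one_le_pow _ _ (by omega)
  obtain ⟨r, rfl⟩ : ∃ r, q = r + 1 := ⟨q - 1, by omega⟩
  refine cop_aux h3 (c := r ^ 2 + r + 1) ?_
  have h5 : (r + 1) ^ 3 - 1 + 2 = (r + 1) ^ 3 + 1 := by omega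
  rw [h5]
  ring

theorem cop_three_p (hq : Even q) (h2 : 2 ≤ q) : Nat.Coprime (q ^ 3 + 1) (q - 1) := by
  have h3 := tv_odd hq h2 (d := 3) (by norm_num) false
  simp only [tv_false] at h3
  obtain ⟨r, rfl⟩ : ∃ r, q = r + 1 := ⟨q - 1, by omega⟩
  refine cop_aux' h3 (c := (r + 1) ^ 2 + (r + 1) + 1) ?_
  simp only [Nat.add_sub_cancel]
  ring

end Arith

section Poly

variable {F : Type*} [Field F]

theorem X_pow_sub_one_dvd {n M : ℕ} (h : n ∣ M) : (X ^ n - 1 : F[X]) ∣ X ^ M - 1 := by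
  obtain ⟨c, rfl⟩ := h
  rw [pow_mul]
  simpa using sub_dvd_pow_sub_pow ((X : F[X]) ^ n) 1 c

theorem X_sub_one_dvd (M : ℕ) : (X - 1 : F[X]) ∣ X ^ M - 1 := by
  simpa using sub_dvd_pow_sub_pow (X : F[X]) 1 M

/-- Coprimality from coprime exponents. -/
theorem coprime_of_exponents {B₁ B₂ : F[X]} {a b : ℕ} (h1 : B₁ ∣ X ^ a - 1) (h2 : B₂ ∣ X ^ b - 1)
    (hab : Nat.Coprime a b) (hc : IsCoprime B₁ (X - 1)) : IsCoprime B₁ B₂ := by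
  let I : Ideal F[X] := Ideal.span {B₁, B₂}
  let mk := Ideal.Quotient.mk I
  have hB1 : mk B₁ = 0 := Ideal.Quotient.eq_zero_iff_mem.2 (Ideal.subset_span (by simp))
  have hB2 : mk B₂ = 0 := Ideal.Quotient.eq_zero_iff_mem.2 (Ideal.subset_span (by simp))
  have hx1 : (mk X) ^ a = 1 := by
    obtain ⟨g, hg⟩ := h1
    have := congrArg mk hg
    rw [map_sub, map_pow, map_one, map_mul, hB1, zero_mul, sub_eq_zero] at this
    exact this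
  have hx2 : (mk X) ^ b = 1 := by
    obtain ⟨g, hg⟩ := h2
    have := congrArg mk hg
    rw [map_sub, map_pow, map_one, map_mul, hB2, zero_mul, sub_eq_zero] at this
    exact this
  have hx : mk X = 1 := by
    have := (pow_gcd_eq_one).2 ⟨hx1, hx2⟩
    rw [hab] at this
    simpa using this
  obtain ⟨u, v, huv⟩ := hc
  have h3 : mk 1 = 0 := by
    rw [← huv, map_add, map_mul, map_mul, hB1, map_sub, hx, map_one, sub_self]
    simp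
  have h4 : (1 : F[X]) ∈ I := Ideal.Quotient.eq_zero_iff_mem.1 h3
  rw [Ideal.mem_span_pair] at h4
  obtain ⟨r, s, hrs⟩ := h4
  exact ⟨r, s, hrs⟩

theorem mul_dvd_of_exponents {B₁ B₂ : F[X]} {a b : ℕ} (h1 : B₁ ∣ X ^ a - 1) (h2 : B₂ ∣ X ^ b - 1)
    (hab : Nat.Coprime a b) (hc : IsCoprime B₁ (X - 1)) : B₁ * B₂ ∣ X ^ (a * b) - 1 :=
  (coprime_of_exponents h1 h2 hab hc).mul_dvd (h1.trans (X_pow_sub_one_dvd (dvd_mul_right _ _)))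
    (h2.trans (X_pow_sub_one_dvd (dvd_mul_left _ _)))

end Poly

section Tab

variable {F : Type*} [Field F] {q : ℕ}

/-- The table entry: `ψ` divides `(X ^ M - 1) ^ (2 ^ a)`, `2 k ≤ 2 ^ a` and `2 ^ a * M` divides a listed order. -/
def Tab (q : ℕ) (ψ : F[X]) (k : ℕ) : Prop :=
  ∃ M a : ℕ, Odd M ∧ ψ ∣ (X ^ M - 1) ^ (2 ^ a) ∧ 2 * k ≤ 2 ^ a ∧ ∃ N, IsL q N ∧ 2 ^ a * M ∣ N

variable (hq : Even q) (h2 : 2 ≤ q)
include hq h2

theorem blk {B : F[X]} {d : ℕ} {ε : Bool} (h : IsBlock q B d ε) {M : ℕ} (hM : tv q d ε ∣ M) : B ∣ X ^ M - 1 :=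
  h.dvd.trans (X_pow_sub_one_dvd hM)

theorem tab_k4 : Tab q (1 : F[X]) 4 := by
  refine ⟨q - 1, 3, ?_, one_dvd _, by norm_num, 8 * (q - 1), ?_, by norm_num⟩
  · simpa using tv_odd hq h2 (d := 1) le_rfl true
  · simp [IsL]

theorem tab_k3 {B : F[X]} {ε : Bool} (h : IsBlock q B 1 ε) : Tab q B 3 := by
  refine ⟨tv q 1 ε, 3, tv_odd hq h2 le_rfl ε, ?_, by norm_num, 8 * tv q 1 ε, ?_, by norm_num⟩
  · exact (h.dvd).trans (dvd_pow_self _ (by norm_num))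
  · cases ε <;> simp [IsL]

theorem tab_k2_2 {B : F[X]} {ε : Bool} (h : IsBlock q B 2 ε) : Tab q B 2 := by
  refine ⟨tv q 2 ε, 2, tv_odd hq h2 (by norm_num) ε, ?_, by norm_num, 4 * tv q 2 ε, ?_, by norm_num⟩
  · exact (h.dvd).trans (dvd_pow_self _ (by norm_num))
  · cases ε <;> simp [IsL]

theorem tab_k2_11 {B₁ B₂ : F[X]} {ε₁ ε₂ : Bool} (h₁ : IsBlock q B₁ 1 ε₁) (h₂ : IsBlock q B₂ 1 ε₂) : Tab q (B₁ * B₂) 2 := by
  refine ⟨q ^ 2 - 1, 2, ?_, ?_, by norm_num, 4 * (q ^ 2 - 1), ?_, by norm_num⟩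
  · simpa using tv_odd hq h2 (d := 2) (by norm_num) true
  · have h3 := mul_dvd_mul (blk hq h2 h₁ (dvd_one_sq h2 ε₁)) (blk hq h2 h₂ (dvd_one_sq h2 ε₂))
    refine h3.trans ?_
    rw [← pow_two]
    exact pow_dvd_pow _ (by norm_num)
  · simp [IsL]

theorem tab_k1_3 {B : F[X]} {ε : Bool} (h : IsBlock q B 3 ε) : Tab q B 1 := by
  refine ⟨tv q 3 ε, 1, tv_odd hq h2 (by norm_num) ε, ?_, by norm_num, 2 * tv q 3 ε, ?_, by norm_num⟩
  · exact (h.dvd).trans (dvd_pow_self _ (by norm_num))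
  · cases ε <;> simp [IsL]

theorem odd_mul_tv (ε' : Bool) : Odd ((q ^ 2 + 1) * tv q 1 ε') :=
  (by simpa using tv_odd hq h2 (d := 2) (by norm_num) false : Odd (q ^ 2 + 1)).mul (tv_odd hq h2 le_rfl ε')

theorem sq_p_isL (ε' : Bool) : IsL q (2 * ((q ^ 2 + 1) * tv q 1 ε')) := by
  cases ε' <;> simp [IsL]

theorem tab_k1_21 {B₁ B₂ : F[X]} {ε ε' : Bool} (h₁ : IsBlock q B₁ 2 ε) (h₂ : IsBlock q B₂ 1 ε') : Tab q (B₁ * B₂) 1 := by
  cases ε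
  · refine ⟨(q ^ 2 + 1) * tv q 1 ε', 1, odd_mul_tv hq h2 ε', ?_, by norm_num, _, sq_p_isL hq h2 ε', by norm_num⟩
    rw [pow_one, pow_two]
    exact mul_dvd_mul (blk hq h2 h₁ (by simp)) (blk hq h2 h₂ (by simp))
  · refine ⟨q ^ 2 - 1, 2, ?_, ?_, by norm_num, 4 * (q ^ 2 - 1), ?_, by norm_num⟩
    · simpa using tv_odd hq h2 (d := 2) (by norm_num) true
    · have h3 := mul_dvd_mul (blk hq h2 h₁ (M := q ^ 2 - 1) (by simp)) (blk hq h2 h₂ (dvd_one_sq h2 ε'))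
      refine h3.trans ?_
      rw [← pow_two]
      exact pow_dvd_pow _ (by norm_num)
    · simp [IsL]

theorem tab_k1_111 {B₁ B₂ B₃ : F[X]} {ε₁ ε₂ ε₃ : Bool} (h₁ : IsBlock q B₁ 1 ε₁) (h₂ : IsBlock q B₂ 1 ε₂)
    (h₃ : IsBlock q B₃ 1 ε₃) : Tab q (B₁ * (B₂ * B₃)) 1 := by
  refine ⟨q ^ 2 - 1, 2, ?_, ?_, by norm_num, 4 * (q ^ 2 - 1), ?_, by norm_num⟩
  · simpa using tv_odd hq h2 (d := 2) (by norm_num) true
  · have h3 := mul_dvd_mul (blk hq h2 h₁ (dvd_one_sq h2 ε₁))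
      (mul_dvd_mul (blk hq h2 h₂ (dvd_one_sq h2 ε₂)) (blk hq h2 h₃ (dvd_one_sq h2 ε₃)))
    refine h3.trans ?_
    rw [← pow_two, ← pow_succ']
    exact pow_dvd_pow _ (by norm_num)
  · simp [IsL]

theorem tab_k0_4 {B : F[X]} {ε : Bool} (h : IsBlock q B 4 ε) : Tab q B 0 := by
  refine ⟨tv q 4 ε, 0, tv_odd hq h2 (by norm_num) ε, ?_, by norm_num, tv q 4 ε, ?_, by norm_num⟩
  · simpa using h.dvd
  · cases ε <;> simp [IsL]

theorem tab_k0_31 {B₁ B₂ : F[X]} {ε ε' : Bool} (h₁ : IsBlock q B₁ 3 ε) (h₂ : IsBlock q B₂ 1 ε') : Tab q (B₁ * B₂) 0 := by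
  by_cases he : ε = ε'
  · subst he
    refine ⟨tv q 3 ε, 1, tv_odd hq h2 (by norm_num) ε, ?_, by norm_num, 2 * tv q 3 ε, ?_, by norm_num⟩
    · rw [pow_one, pow_two]
      exact mul_dvd_mul h₁.dvd (blk hq h2 h₂ (dvd_one_three h2 ε))
    · cases ε <;> simp [IsL]
  · have hodd : Odd (tv q 3 ε * tv q 1 ε') := (tv_odd hq h2 (by norm_num) ε).mul (tv_odd hq h2 le_rfl ε')
    have hcop : Nat.Coprime (tv q 3 ε) (tv q 1 ε') := by
      cases ε <;> cases ε' <;> simp at he ⊢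
      · exact cop_three_p hq h2
      · exact cop_three_m hq h2
    refine ⟨tv q 3 ε * tv q 1 ε', 0, hodd, ?_, by norm_num, tv q 3 ε * tv q 1 ε', ?_, by norm_num⟩
    · simpa using mul_dvd_of_exponents h₁.dvd h₂.dvd hcop h₁.cop
    · cases ε <;> cases ε' <;> simp at he ⊢ <;> simp [IsL]

theorem tab_k0_22 {B₁ B₂ : F[X]} {ε ε' : Bool} (h₁ : IsBlock q B₁ 2 ε) (h₂ : IsBlock q B₂ 2 ε') : Tab q (B₁ * B₂) 0 := by
  by_cases he : ε = ε'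
  · subst he
    refine ⟨tv q 2 ε, 2, tv_odd hq h2 (by norm_num) ε, ?_, by norm_num, 4 * tv q 2 ε, ?_, by norm_num⟩
    · have h3 := mul_dvd_mul h₁.dvd h₂.dvd
      refine h3.trans ?_
      rw [← pow_two]
      exact pow_dvd_pow _ (by norm_num)
    · cases ε <;> simp [IsL]
  · have hodd : Odd (q ^ 4 - 1) := by simpa using tv_odd hq h2 (d := 4) (by norm_num) true
    refine ⟨q ^ 4 - 1, 0, hodd, ?_, by norm_num, q ^ 4 - 1, ?_, by norm_num⟩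
    · rw [pow_zero, pow_one, qu1 h2]
      cases ε <;> cases ε' <;> simp at he
      · have := mul_dvd_of_exponents h₂.dvd h₁.dvd (by simpa using cop_two_two hq h2) h₂.cop
        simpa [mul_comm] using this
      · have := mul_dvd_of_exponents h₁.dvd h₂.dvd (by simpa using cop_two_two hq h2) h₁.cop
        simpa using this
    · simp [IsL]

theorem tab_k0_211 {B₁ B₂ B₃ : F[X]} {ε ε₁ ε₂ : Bool} (h₁ : IsBlock q B₁ 2 ε) (h₂ : IsBlock q B₂ 1 ε₁)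
    (h₃ : IsBlock q B₃ 1 ε₂) : Tab q (B₁ * (B₂ * B₃)) 0 := by
  cases ε
  · by_cases he : ε₁ = ε₂
    · subst he
      refine ⟨(q ^ 2 + 1) * tv q 1 ε₁, 1, odd_mul_tv hq h2 ε₁, ?_, by norm_num, _, sq_p_isL hq h2 ε₁, by norm_num⟩
      rw [pow_one, pow_two]
      have h4 : B₁ ∣ X ^ ((q ^ 2 + 1) * tv q 1 ε₁) - 1 := blk hq h2 h₁ (by simp)
      have h5 : B₂ * B₃ ∣ (X ^ ((q ^ 2 + 1) * tv q 1 ε₁) - 1) ^ 2 := by
        rw [pow_two]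
        exact mul_dvd_mul (blk hq h2 h₂ (by simp)) (blk hq h2 h₃ (by simp))
      -- the first block is coprime to the two others
      have hcop : IsCoprime B₁ (B₂ * B₃) := by
        have hc : Nat.Coprime (q ^ 2 + 1) (q ^ 2 - 1) := (cop_two_two hq h2).symm
        apply IsCoprime.mul_right
        · exact coprime_of_exponents (a := q ^ 2 + 1) (b := q ^ 2 - 1) (by simpa using h₁.dvd)
            (blk hq h2 h₂ (dvd_one_sq h2 ε₁)) hc h₁.cop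
        · exact coprime_of_exponents (a := q ^ 2 + 1) (b := q ^ 2 - 1) (by simpa using h₁.dvd)
            (blk hq h2 h₃ (dvd_one_sq h2 ε₁)) hc h₁.cop
      have h6 : B₁ ∣ (X ^ ((q ^ 2 + 1) * tv q 1 ε₁) - 1) ^ 2 := h4.trans (dvd_pow_self _ (by norm_num))
      have h7 := hcop.mul_dvd h6 h5
      rw [pow_two] at h7
      exact h7
    · have hodd : Odd (q ^ 4 - 1) := by simpa using tv_odd hq h2 (d := 4) (by norm_num) true
      refine ⟨q ^ 4 - 1, 0, hodd, ?_, by norm_num, q ^ 4 - 1, ?_, by norm_num⟩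
      · rw [pow_zero, pow_one, qu1 h2]
        have h23 : B₂ * B₃ ∣ X ^ (q ^ 2 - 1) - 1 := by
          rw [sq1 h2]
          cases ε₁ <;> cases ε₂ <;> simp at he
          · have := mul_dvd_of_exponents h₃.dvd h₂.dvd (by simpa using cop_one_one hq h2) h₃.cop
            simpa [mul_comm] using this
          · have := mul_dvd_of_exponents h₂.dvd h₃.dvd (by simpa using cop_one_one hq h2) h₂.cop
            simpa using this
        have := mul_dvd_of_exponents h23 (a := q ^ 2 - 1) (b := q ^ 2 + 1) (B₂ := B₁) h₁.dvd (cop_two_two hq h2)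
          (IsCoprime.mul_left h₂.cop h₃.cop)
        simpa [mul_comm] using this
      · simp [IsL]
  · refine ⟨q ^ 2 - 1, 2, ?_, ?_, by norm_num, 4 * (q ^ 2 - 1), ?_, by norm_num⟩
    · simpa using tv_odd hq h2 (d := 2) (by norm_num) true
    · have h3 := mul_dvd_mul (blk hq h2 h₁ (M := q ^ 2 - 1) (by simp))
        (mul_dvd_mul (blk hq h2 h₂ (dvd_one_sq h2 ε₁)) (blk hq h2 h₃ (dvd_one_sq h2 ε₂)))
      refine h3.trans ?_
      rw [← pow_two, ← pow_succ']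
      exact pow_dvd_pow _ (by norm_num)
    · simp [IsL]

theorem tab_k0_1111 {B₁ B₂ B₃ B₄ : F[X]} {ε₁ ε₂ ε₃ ε₄ : Bool} (h₁ : IsBlock q B₁ 1 ε₁) (h₂ : IsBlock q B₂ 1 ε₂)
    (h₃ : IsBlock q B₃ 1 ε₃) (h₄ : IsBlock q B₄ 1 ε₄) : Tab q (B₁ * (B₂ * (B₃ * B₄))) 0 := by
  refine ⟨q ^ 2 - 1, 2, ?_, ?_, by norm_num, 4 * (q ^ 2 - 1), ?_, by norm_num⟩
  · simpa using tv_odd hq h2 (d := 2) (by norm_num) true
  · have h3 := mul_dvd_mul (blk hq h2 h₁ (dvd_one_sq h2 ε₁))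
      (mul_dvd_mul (blk hq h2 h₂ (dvd_one_sq h2 ε₂))
        (mul_dvd_mul (blk hq h2 h₃ (dvd_one_sq h2 ε₃)) (blk hq h2 h₄ (dvd_one_sq h2 ε₄))))
    refine h3.trans ?_
    rw [← pow_two, ← pow_succ', ← pow_succ']
    norm_num
  · simp [IsL]

/-- The table for all lists of blocks of total half degree `4 - k`. -/
theorem tab_all (l : List (F[X] × ℕ × Bool)) (k : ℕ) (hl : ∀ t ∈ l, IsBlock q t.1 t.2.1 t.2.2)
    (hs : k + (l.map (·.2.1)).sum = 4) : Tab q (prodB l) k := by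
  rcases l with _ | ⟨⟨B₁, d₁, ε₁⟩, l⟩
  · simp at hs
    subst hs
    exact tab_k4 hq h2
  have h₁ : IsBlock q B₁ d₁ ε₁ := hl (B₁, d₁, ε₁) (by simp)
  have hd₁ := h₁.pos
  rcases l with _ | ⟨⟨B₂, d₂, ε₂⟩, l⟩
  · simp at hs
    simp only [prodB_cons, prodB_nil, mul_one]
    have hcases : (k = 3 ∧ d₁ = 1) ∨ (k = 2 ∧ d₁ = 2) ∨ (k = 1 ∧ d₁ = 3) ∨ (k = 0 ∧ d₁ = 4) := by omega
    rcases hcases with ⟨rfl, rfl⟩ | ⟨rfl, rfl⟩ | ⟨rfl, rfl⟩ | ⟨rfl, rfl⟩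
    · exact tab_k3 hq h2 h₁
    · exact tab_k2_2 hq h2 h₁
    · exact tab_k1_3 hq h2 h₁
    · exact tab_k0_4 hq h2 h₁
  have h₂ : IsBlock q B₂ d₂ ε₂ := hl (B₂, d₂, ε₂) (by simp)
  have hd₂ := h₂.pos
  rcases l with _ | ⟨⟨B₃, d₃, ε₃⟩, l⟩
  · simp at hs
    simp only [prodB_cons, prodB_nil, mul_one]
    have hcases : (k = 2 ∧ d₁ = 1 ∧ d₂ = 1) ∨ (k = 1 ∧ d₁ = 2 ∧ d₂ = 1) ∨ (k = 1 ∧ d₁ = 1 ∧ d₂ = 2) ∨
        (k = 0 ∧ d₁ = 3 ∧ d₂ = 1) ∨ (k = 0 ∧ d₁ = 1 ∧ d₂ = 3) ∨ (k = 0 ∧ d₁ = 2 ∧ d₂ = 2) := by omega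
    rcases hcases with ⟨rfl, rfl, rfl⟩ | ⟨rfl, rfl, rfl⟩ | ⟨rfl, rfl, rfl⟩ | ⟨rfl, rfl, rfl⟩ | ⟨rfl, rfl, rfl⟩ |
      ⟨rfl, rfl, rfl⟩
    · exact tab_k2_11 hq h2 h₁ h₂
    · exact tab_k1_21 hq h2 h₁ h₂
    · rw [mul_comm]
      exact tab_k1_21 hq h2 h₂ h₁
    · exact tab_k0_31 hq h2 h₁ h₂
    · rw [mul_comm]
      exact tab_k0_31 hq h2 h₂ h₁
    · exact tab_k0_22 hq h2 h₁ h₂
  have h₃ : IsBlock q B₃ d₃ ε₃ := hl (B₃, d₃, ε₃) (by simp)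
  have hd₃ := h₃.pos
  rcases l with _ | ⟨⟨B₄, d₄, ε₄⟩, l⟩
  · simp at hs
    simp only [prodB_cons, prodB_nil, mul_one]
    have hcases : (k = 1 ∧ d₁ = 1 ∧ d₂ = 1 ∧ d₃ = 1) ∨ (k = 0 ∧ d₁ = 2 ∧ d₂ = 1 ∧ d₃ = 1) ∨
        (k = 0 ∧ d₁ = 1 ∧ d₂ = 2 ∧ d₃ = 1) ∨ (k = 0 ∧ d₁ = 1 ∧ d₂ = 1 ∧ d₃ = 2) := by omega
    rcases hcases with ⟨rfl, rfl, rfl, rfl⟩ | ⟨rfl, rfl, rfl, rfl⟩ | ⟨rfl, rfl, rfl, rfl⟩ | ⟨rfl, rfl, rfl, rfl⟩
    · exact tab_k1_111 hq h2 h₁ h₂ h₃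
    · exact tab_k0_211 hq h2 h₁ h₂ h₃
    · rw [mul_left_comm]
      exact tab_k0_211 hq h2 h₂ h₁ h₃
    · rw [mul_comm B₂, mul_left_comm]
      exact tab_k0_211 hq h2 h₃ h₁ h₂
  have h₄ : IsBlock q B₄ d₄ ε₄ := hl (B₄, d₄, ε₄) (by simp)
  have hd₄ := h₄.pos
  rcases l with _ | ⟨⟨B₅, d₅, ε₅⟩, l⟩
  · simp at hs
    simp only [prodB_cons, prodB_nil, mul_one]
    have hcases : k = 0 ∧ d₁ = 1 ∧ d₂ = 1 ∧ d₃ = 1 ∧ d₄ = 1 := by omega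
    obtain ⟨rfl, rfl, rfl, rfl, rfl⟩ := hcases
    exact tab_k0_1111 hq h2 h₁ h₂ h₃ h₄
  · exfalso
    have h₅ : IsBlock q B₅ d₅ ε₅ := hl (B₅, d₅, ε₅) (by simp)
    have hd₅ := h₅.pos
    simp at hs
    omega

end Tab

end Cfsg.Agent.Lib.SpEight
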