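import Cfsg.Agent.Lib.SpEight.Atoms
import Cfsg.Agent.Lib.Linalg.BinaryAniso

/-!
# The tori: elements of order `q ^ d - 1` and `q ^ d + 1`, transferred by the trace
-/

set_option autoImplicit false
set_option linter.unusedSectionVars false
set_option linter.unusedVariables false
set_option linter.unusedSimpArgs false

namespace Cfsg.Agent.Lib.SpEight

open Module QuadraticMap

universe u

section Trans

variable {F : Type u} {K : Type*} [Field F] [Fintype F] [Field K] [Fintype K] [Algebra F K] [CharP K 2]
variable {V : Type*} [AddCommGroup V] [Module K V] [Module F V] [IsScalarTower F K V] [Fintype V]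

/-- The transfer of a quadratic form by the trace. -/
noncomputable def trQ (N : QuadraticForm K V) : QuadraticForm F V :=
  (Algebra.trace F K).compQuadraticMap (N.restrictScalars (S := F))

@[simp] theorem trQ_apply (N : QuadraticForm K V) (v : V) : trQ (F := F) N v = Algebra.trace F K (N v) := rfl

theorem polar_trQ (N : QuadraticForm K V) (x y : V) : polar (trQ (F := F) N) x y = Algebra.trace F K (polar N x y) := by
  simp only [polar, trQ_apply, map_sub]

theorem nd_trQ (N : QuadraticForm K V) (hN : ∀ x, (∀ y, polar N x y = 0) → x = 0) :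
    ∀ x, (∀ y, polar (trQ (F := F) N) x y = 0) → x = 0 := by
  intro x hx
  apply hN
  intro y
  by_contra hne
  obtain ⟨z, hz⟩ := Algebra.trace_surjective F K 1
  have h1 := hx (((polar N x y)⁻¹ * z) • y)
  rw [polar_trQ, polar_smul_right, smul_eq_mul] at h1
  have e : (polar N x y)⁻¹ * z * polar N x y = z := by field_simp
  rw [e, hz] at h1
  exact one_ne_zero h1

theorem restrict_pow (T : Module.End K V) (t : ℕ) :
    ((T.restrictScalars F : Module.End F V)) ^ t = (T ^ t).restrictScalars F := by
  induction t with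
  | zero => rfl
  | succ t ih =>
    rw [pow_succ, ih, pow_succ]
    rfl

theorem restrict_eq_one (T : Module.End K V) : (T.restrictScalars F : Module.End F V) = 1 ↔ T = 1 := by
  constructor
  · intro h
    apply LinearMap.ext
    intro v
    exact congrArg (fun S : Module.End F V => S v) h
  · rintro rfl
    rfl

/-- **The trace transfer of a binary block.** -/
theorem tr_AB {N : QuadraticForm K V} {T : Module.End K V} {d o : ℕ} {D : ℤ}
    (hnd : ∀ x, (∀ y, polar N x y = 0) → x = 0) (hD : HasD (⇑N) D) (hiso : ∀ v, N (T v) = N v)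
    (hdim : finrank K V = 2) (hd : finrank F K = d) (ho : 0 < o) (hord : ∀ t, T ^ t = 1 ↔ o ∣ t)
    (hfix : T = 1 ∨ ∀ v, T v = v → v = 0) :
    AB (trQ (F := F) N) (T.restrictScalars F : Module.End F V) d D o 0 False where
  dim := by
    have hfin : FiniteDimensional F K := Module.Finite.of_finite
    have hfin2 : FiniteDimensional K V := Module.Finite.of_finite
    rw [← Module.finrank_mul_finrank F K V, hd, hdim, mul_comm]
  nd := nd_trQ N hnd
  hD := by
    have hQ : ∀ (r : K) v, N (r • v) = r * r * N v := fun r v => by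
      rw [QuadraticMap.map_smul, smul_eq_mul]
    exact HasD.trace hQ hD
  iso := by
    intro v
    rw [trQ_apply, trQ_apply]
    exact congrArg _ (hiso v)
  pos := ho
  ord := by
    intro t
    rw [restrict_pow, restrict_eq_one, hord]
  par := by
    have hfin : FiniteDimensional F K := Module.Finite.of_finite
    have hfin2 : FiniteDimensional K V := Module.Finite.of_finite
    rcases hfix with rfl | hfix
    · have h1 : fixS ((1 : Module.End K V).restrictScalars F : Module.End F V) = ⊤ := by
        ext v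
        rw [mem_fixS]
        simp
      rw [h1, finrank_top, ← Module.finrank_mul_finrank F K V, hdim]
      simp
    · have h1 : fixS (T.restrictScalars F : Module.End F V) = ⊥ := by
        rw [eq_bot_iff]
        intro v hv
        rw [mem_fixS] at hv
        exact hfix v hv
      rw [h1, finrank_bot]
  dbl := fun h => h.elim

end Trans

section Plus

variable {K : Type*} [Field K] [Fintype K] [CharP K 2]

/-- The split torus element. -/
noncomputable def tP (θ : Kˣ) : Module.End K (K × K) :=
  LinearMap.prodMap (LinearMap.mulLeft K (θ : K)) (LinearMap.mulLeft K ((θ⁻¹ : Kˣ) : K))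

@[simp] theorem tP_apply (θ : Kˣ) (v : K × K) : tP θ v = ((θ : K) * v.1, ((θ⁻¹ : Kˣ) : K) * v.2) := rfl

theorem tP_pow (θ : Kˣ) (t : ℕ) (v : K × K) : (tP θ ^ t) v = (((θ ^ t : Kˣ) : K) * v.1, (((θ⁻¹) ^ t : Kˣ) : K) * v.2) := by
  induction t generalizing v with
  | zero => simp
  | succ t ih =>
    rw [pow_succ, Module.End.mul_apply, ih, tP_apply, pow_succ, pow_succ, Units.val_mul, Units.val_mul]
    simp only [mul_assoc]

theorem tP_pow_eq_one (θ : Kˣ) (t : ℕ) : tP θ ^ t = 1 ↔ θ ^ t = 1 := by
  constructor
  · intro h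
    have h1 := congrArg (fun S : Module.End K (K × K) => (S (1, 1)).1) h
    simp only [tP_pow, mul_one, Module.End.one_apply] at h1
    exact Units.ext h1
  · intro h
    apply LinearMap.ext
    intro v
    rw [tP_pow, inv_pow, h]
    simp

theorem tP_fix (θ : Kˣ) : tP θ = 1 ∨ ∀ v, tP θ v = v → v = 0 := by
  by_cases h : θ = 1
  · left
    have := (tP_pow_eq_one θ 1).2 (by simpa using h)
    simpa using this
  · right
    intro v hv
    have hθ : (θ : K) ≠ 1 := fun e => h (Units.ext e)
    have h1 : ((θ : K) - 1) * v.1 = 0 := by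
      have := congrArg Prod.fst hv
      simp only [tP_apply] at this
      linear_combination this
    have h2 : ((θ : K) - 1) * v.2 = 0 := by
      have := congrArg Prod.snd hv
      simp only [tP_apply] at this
      have h3 : (θ : K) * ((θ⁻¹ : Kˣ) : K) = 1 := by simp
      linear_combination v.2 * h3 - (θ : K) * this
    have hs : (θ : K) - 1 ≠ 0 := sub_ne_zero.2 hθ
    apply Prod.ext
    · exact (mul_eq_zero.1 h1).resolve_left hs
    · exact (mul_eq_zero.1 h2).resolve_left hs

theorem exists_generator_K : ∃ θ : Kˣ, orderOf θ = Fintype.card K - 1 := by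
  classical
  obtain ⟨g, hg⟩ := IsCyclic.exists_generator (α := Kˣ)
  refine ⟨g, ?_⟩
  rw [orderOf_eq_card_of_forall_mem_zpowers hg, Nat.card_eq_fintype_card, Fintype.card_units]

/-- The plus torus over `K`, transferred to `F`. -/
theorem tr_plus {F : Type u} [Field F] [Fintype F] [Algebra F K] {d : ℕ} (hd : finrank F K = d) :
    Real F d (Fintype.card K : ℤ) (Fintype.card K - 1) 0 False := by
  obtain ⟨θ, hθ⟩ := exists_generator_K (K := K)
  have h2 : 2 ≤ Fintype.card K := Fintype.one_lt_card
  refine (tr_AB (F := F) (N := bq (0 : K) 0) (T := tP θ) (nd_bq _ _) hasD_bq00 (fun v => ?_) (by simp) hd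
    (by omega) (fun t => ?_) (tP_fix θ)).real
  · simp only [bq_apply, tP_apply, zero_mul, zero_add, add_zero]
    have h3 : (θ : K) * ((θ⁻¹ : Kˣ) : K) = 1 := by simp
    linear_combination v.1 * v.2 * h3
  · rw [tP_pow_eq_one, ← hθ, orderOf_dvd_iff_pow_eq_one]

end Plus

section Minus

open QuadraticAlgebra Cfsg.Agent.Lib.Linalg.BinaryAniso

variable {K : Type*} [Field K] [Fintype K] [CharP K 2]

/-- Coordinates on the quadratic extension. -/
def eP (a b : K) : KK a b ≃ₗ[K] K × K where
  toFun z := (z.re, z.im)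
  map_add' _ _ := rfl
  map_smul' _ _ := rfl
  invFun v := ⟨v.1, v.2⟩
  left_inv _ := rfl
  right_inv _ := rfl

@[simp] theorem eP_apply (a b : K) (z : KK a b) : eP a b z = (z.re, z.im) := rfl
@[simp] theorem eP_symm_re (a b : K) (v : K × K) : ((eP a b).symm v).re = v.1 := rfl
@[simp] theorem eP_symm_im (a b : K) (v : K × K) : ((eP a b).symm v).im = v.2 := rfl

/-- The minus torus over `K`, transferred to `F`. -/
theorem tr_minus {F : Type u} [Field F] [Fintype F] [Algebra F K] {d : ℕ} (hd : finrank F K = d) :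
    Real F d (-(Fintype.card K : ℤ)) (Fintype.card K + 1) 0 False := by
  obtain ⟨r, hr⟩ := exists_ani (F := K)
  set ρ : K := r * r with hρ
  have hab : ∀ z₁ z₂ : K, z₁ ^ 2 + 1 * z₁ * z₂ + ρ * z₂ ^ 2 = 0 → z₁ = 0 ∧ z₂ = 0 := by
    intro z₁ z₂ h
    by_cases h2 : z₂ = 0
    · subst h2
      simp only [ne_eq, OfNat.ofNat_ne_zero, not_false_eq_true, zero_pow, mul_zero, add_zero] at h
      exact ⟨by simpa using h, rfl⟩
    · exfalso
      apply hr (z₁ / z₂)
      field_simp
      linear_combination h
  haveI : Fact (∀ s : K, s ^ 2 ≠ -ρ + 1 * s) := fact_of_aniso hab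
  obtain ⟨u, hu⟩ := exists_generator (a := (1 : K)) (b := ρ) (q := Fintype.card K) rfl
  have hNu : norm (u : KK (1 : K) ρ) = 1 := by
    have hcu : (u : KK (1 : K) ρ) * star (u : KK (1 : K) ρ) = 1 := by
      rw [← algebraMap_norm_eq_mul_star]
      have h := pow_succ_eq_norm (a := (1 : K)) (b := ρ) (q := Fintype.card K) rfl (u : KK (1 : K) ρ)
      rw [← h, ← Units.val_pow_eq_pow_val, ← hu, pow_orderOf_eq_one, Units.val_one]
    have h := algebraMap_norm_eq_mul_star (u : KK (1 : K) ρ)
    rw [hcu] at h
    exact (algebraMap K (KK (1 : K) ρ)).injective (h.trans (map_one _).symm)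
  let M : Module.End K (KK (1 : K) ρ) := LinearMap.mulLeft K (u : KK (1 : K) ρ)
  have hMpow : ∀ t, M ^ t = 1 ↔ u ^ t = 1 := by
    intro t
    rw [LinearMap.pow_mulLeft]
    constructor
    · intro h
      have h1 := congrArg (fun S : Module.End K (KK (1 : K) ρ) => S 1) h
      simp only [LinearMap.mulLeft_apply, mul_one, Module.End.one_apply] at h1
      exact Units.ext (by simpa using h1)
    · intro h
      apply LinearMap.ext
      intro z
      rw [LinearMap.mulLeft_apply, ← Units.val_pow_eq_pow_val, h]
      simp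
  have h2 : 2 ≤ Fintype.card K := Fintype.one_lt_card
  have hu1 : (u : KK (1 : K) ρ) ≠ 1 := by
    intro e
    have h3 : u = 1 := Units.ext e
    rw [h3, orderOf_one] at hu
    omega
  have hnorm : ∀ z : KK (1 : K) ρ, bq (1 : K) ρ (eP _ _ z) = norm z := by
    intro z
    rw [norm_apply, bq_apply, eP_apply]
    ring
  let T : Module.End K (K × K) := cj (eP (1 : K) ρ) M
  refine (tr_AB (F := F) (N := bq (1 : K) ρ) (T := T) (nd_bq _ _) (hasD_bq1 (D := -(Fintype.card K : ℤ)) (Or.inr ⟨hr, rfl⟩))
    (fun v => ?_) (by simp) hd (by omega) (fun t => ?_) (Or.inr fun v hv => ?_)).real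
  · have e1 : T v = eP _ _ ((u : KK (1 : K) ρ) * (eP (1 : K) ρ).symm v) := rfl
    have e2 : v = eP _ _ ((eP (1 : K) ρ).symm v) := by simp
    rw [e1, hnorm]
    conv_rhs => rw [e2, hnorm]
    rw [map_mul, hNu, one_mul]
  · rw [cj_pow, cj_eq_one, hMpow, ← hu, orderOf_dvd_iff_pow_eq_one]
  · have e1 : T v = eP _ _ ((u : KK (1 : K) ρ) * (eP (1 : K) ρ).symm v) := rfl
    have h3 : (u : KK (1 : K) ρ) * (eP (1 : K) ρ).symm v = (eP (1 : K) ρ).symm v := by
      apply (eP (1 : K) ρ).injective
      rw [← e1, hv]
      simp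
    have h4 : ((u : KK (1 : K) ρ) - 1) * (eP (1 : K) ρ).symm v = 0 := by
      rw [sub_mul, h3, one_mul, sub_self]
    have h5 := (mul_eq_zero.1 h4).resolve_left (sub_ne_zero.2 hu1)
    have h6 : v = eP _ _ ((eP (1 : K) ρ).symm v) := by simp
    rw [h6, h5, map_zero]

end Minus

section Final

variable {F : Type u} [Field F] [Fintype F] [CharP F 2]

theorem exists_ext (d : ℕ) (hd : 1 ≤ d) : ∃ (K : Type) (_ : Field K) (_ : Fintype K) (_ : Algebra F K) (_ : CharP K 2),
    finrank F K = d ∧ Fintype.card K = Fintype.card F ^ d := by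
  haveI : Fact (Nat.Prime 2) := ⟨Nat.prime_two⟩
  haveI : NeZero d := ⟨by omega⟩
  let K := FiniteField.Extension F 2 d
  letI : Fintype K := Fintype.ofFinite K
  have hc : CharP K 2 := charP_of_injective_algebraMap (algebraMap F K).injective 2
  refine ⟨K, inferInstance, inferInstance, inferInstance, hc, FiniteField.finrank_extension F 2 d, ?_⟩
  have := FiniteField.natCard_extension F 2 d
  rwa [Nat.card_eq_fintype_card, Nat.card_eq_fintype_card] at this

/-- The plus torus of half dimension `d`. -/
theorem at_plus (d : ℕ) (hd : 1 ≤ d) :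
    Real F d ((Fintype.card F : ℤ) ^ d) (Fintype.card F ^ d - 1) 0 False := by
  obtain ⟨K, _, _, _, hc, h1, h2⟩ := exists_ext (F := F) d hd
  have := tr_plus (F := F) (K := K) h1
  rw [h2] at this
  simpa using this

/-- The minus torus of half dimension `d`. -/
theorem at_minus (d : ℕ) (hd : 1 ≤ d) :
    Real F d (-(Fintype.card F : ℤ) ^ d) (Fintype.card F ^ d + 1) 0 False := by
  obtain ⟨K, _, _, _, hc, h1, h2⟩ := exists_ext (F := F) d hd
  have := tr_minus (F := F) (K := K) h1
  rw [h2] at this
  simpa using this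

end Final

end Cfsg.Agent.Lib.SpEight
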