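import Cfsg.Agent.Lib.SpEight.Tori
import Cfsg.Agent.Lib.Classical.Witt.Index
import Cfsg.Agent.Lib.MinIndex.OCount
import Cfsg.Agent.Lib.Classical.Spectra.Bridge
import Cfsg.Agent.Lib.Classical.Orth.Dickson

/-!
# From coordinates to the isometry group of the standard minus form
-/

set_option autoImplicit false
set_option linter.unusedSectionVars false
set_option linter.unusedVariables false
set_option linter.unusedSimpArgs false

namespace Cfsg.Agent.Lib.SpEight

open Module QuadraticMap Cfsg
open Cfsg.Agent.Lib.Linalg.OrthModels Cfsg.Agent.Lib.Classical.Witt.Hyp Cfsg.Agent.Lib.Classical.Witt.Index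
open Cfsg.Agent.Lib.Classical.Orth.Basic Cfsg.Agent.Lib.Classical.Orth.CartanDieudonne
open Cfsg.Agent.Lib.Classical.Spectra.Bridge

universe u

variable {F : Type u} [Field F] [Fintype F] [CharP F 2]

theorem vc_eq_cnt {V : Type*} [Fintype V] (Q : V → F) (c : F) :
    vc Q c = Cfsg.Agent.Lib.MinIndex.OCount.cnt Q c := rfl

theorem hasD_plus (m : ℕ) : HasD (quadFormPlus m F) ((Fintype.card F : ℤ) ^ m) := by
  have h1 := Cfsg.Agent.Lib.MinIndex.OCount.cntPlus_zero (F := F) rfl m
  unfold HasD
  rw [vc_eq_cnt]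
  have hq1 : 1 ≤ Fintype.card F := Fintype.card_pos
  have hc : Fintype.card (Fin m ⊕ Fin m → F) = Fintype.card F ^ (2 * m) := by
    rw [Fintype.card_fun, Fintype.card_sum, Fintype.card_fin, two_mul]
  rw [hc]
  zify [hq1] at h1
  push_cast
  linarith

theorem hasD_minus (m : ℕ) {a b : F} (hab : ∀ z₁ z₂ : F, z₁ ^ 2 + a * z₁ * z₂ + b * z₂ ^ 2 = 0 → z₁ = 0 ∧ z₂ = 0) :
    HasD (quadFormMinus m F a b) (-(Fintype.card F : ℤ) ^ (m + 1)) := by
  have h1 := Cfsg.Agent.Lib.MinIndex.OCount.cntMinus_zero (F := F) rfl m hab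
  unfold HasD
  rw [vc_eq_cnt]
  have hq1 : 1 ≤ Fintype.card F := Fintype.card_pos
  have hc : Fintype.card ((Fin m ⊕ Fin m) ⊕ Fin 2 → F) = Fintype.card F ^ (2 * m + 2) := by
    rw [Fintype.card_fun, Fintype.card_sum, Fintype.card_sum, Fintype.card_fin, Fintype.card_fin, two_mul]
  rw [hc]
  zify [hq1] at h1
  push_cast
  linarith

/-- The classes of the Artin-Schreier map. -/
theorem exists_shift {ζ ζ' : F} (h : ∀ t : F, t * t + t + ζ ≠ 0) (h' : ∀ t : F, t * t + t + ζ' ≠ 0) :
    ∃ t : F, t * t + t + ζ' = ζ := by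
  have htwo : (2 : F) = 0 := two_F'
  let P : F →+ F :=
    { toFun := fun w => w * w + w
      map_zero' := by simp
      map_add' := fun x y => by
        linear_combination (x * y) * htwo }
  have hker : Nat.card P.ker = 2 := by
    have h1 : (P.ker : Set F) = {0, 1} := by
      ext w
      simp only [SetLike.mem_coe, AddMonoidHom.mem_ker, Set.mem_insert_iff, Set.mem_singleton_iff]
      constructor
      · intro e
        have e' : w * w + w = 0 := e
        have h3 : w * (w + 1) = 0 := by linear_combination e'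
        rcases mul_eq_zero.1 h3 with h4 | h4
        · exact Or.inl h4
        · right
          linear_combination h4 - htwo
      · rintro (rfl | rfl)
        · exact map_zero P
        · change (1 : F) * 1 + 1 = 0
          linear_combination htwo
    have h2 : Nat.card P.ker = Nat.card ({0, 1} : Set F) := by
      rw [← h1]
      rfl
    rw [h2, Nat.card_coe_set_eq, Set.ncard_pair (zero_ne_one)]
  have hidx : P.range.index = 2 := by
    have h1 := P.ker.card_mul_index
    have h2 := P.range.card_mul_index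
    rw [AddSubgroup.index_ker] at h1
    have h3 : Nat.card P.range ≠ 0 := Nat.card_pos.ne'
    rw [hker, ← h2] at h1
    have h4 : Nat.card P.range * 2 = Nat.card P.range * P.range.index := by
      rw [← h1]
      ring
    exact (Nat.eq_of_mul_eq_mul_left (Nat.pos_of_ne_zero h3) h4).symm
  have hnot : ∀ {z : F}, (∀ t : F, t * t + t + z ≠ 0) → z ∉ P.range := by
    rintro z hz ⟨t, ht⟩
    apply hz t
    have ht' : t * t + t = z := ht
    rw [ht']
    linear_combination z * htwo
  have hmem : ζ + ζ' ∈ P.range := (AddSubgroup.add_mem_iff_of_index_two hidx).2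
    ⟨fun e => absurd e (hnot h), fun e => absurd e (hnot h')⟩
  obtain ⟨t, ht⟩ := hmem
  refine ⟨t, ?_⟩
  have ht' : t * t + t = ζ + ζ' := ht
  rw [ht']
  linear_combination ζ' * htwo

/-- All anisotropic binary forms are equivalent: the linear equivalence of the whole space. -/
theorem exists_minus_equiv {m : ℕ} {a b ζ : F} (hab : ∀ z₁ z₂ : F, z₁ ^ 2 + a * z₁ * z₂ + b * z₂ ^ 2 = 0 → z₁ = 0 ∧ z₂ = 0)
    (hζ : ∀ t : F, t ^ 2 + t + ζ ≠ 0) :
    ∃ e : ((Fin m ⊕ Fin m) ⊕ Fin 2 → F) ≃ₗ[F] ((Fin m ⊕ Fin m) ⊕ Fin 2 → F),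
      ∀ w, quadFormMinus m F a b (e w) = quadFormMinus m F 1 ζ w := by
  have htwo : (2 : F) = 0 := two_F'
  have ha : a ≠ 0 := by
    rintro rfl
    obtain ⟨s, hs⟩ := exists_sq b
    have := hab s 1 (by
      rw [← hs]
      linear_combination s * s * htwo)
    exact one_ne_zero this.2
  have hζ' : ∀ t : F, t * t + t + b / (a * a) ≠ 0 := by
    intro t ht
    have h1 := hab (a * t) 1 (by
      field_simp at ht
      linear_combination ht)
    exact one_ne_zero h1.2
  have hζ2 : ∀ t : F, t * t + t + ζ ≠ 0 := fun t => by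
    have := hζ t
    rwa [pow_two] at this
  obtain ⟨t, ht⟩ := exists_shift hζ2 hζ'
  let e : ((Fin m ⊕ Fin m) ⊕ Fin 2 → F) ≃ₗ[F] ((Fin m ⊕ Fin m) ⊕ Fin 2 → F) :=
    { toFun := fun w => Sum.elim (fun i => w (Sum.inl i)) ![w (Sum.inr 0) + t * w (Sum.inr 1), a⁻¹ * w (Sum.inr 1)]
      map_add' := by
        intro x y
        ext i
        rcases i with i | k
        · rfl
        · fin_cases k
          · simp
            ring
          · simp
            ring
      map_smul' := by
        intro c x
        ext i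
        rcases i with i | k
        · rfl
        · fin_cases k
          · simp
            ring
          · simp
            ring
      invFun := fun w => Sum.elim (fun i => w (Sum.inl i)) ![w (Sum.inr 0) + t * (a * w (Sum.inr 1)), a * w (Sum.inr 1)]
      left_inv := by
        intro x
        ext i
        rcases i with i | k
        · rfl
        · fin_cases k
          · simp
            field_simp
            linear_combination (t * x (Sum.inr 1)) * htwo
          · simp
            field_simp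
      right_inv := by
        intro x
        ext i
        rcases i with i | k
        · rfl
        · fin_cases k
          · simp
            linear_combination (t * (a * x (Sum.inr 1))) * htwo
          · simp
            field_simp }
  refine ⟨e, fun w => ?_⟩
  simp only [quadFormMinus]
  have h0 : e w (Sum.inr 0) = w (Sum.inr 0) + t * w (Sum.inr 1) := rfl
  have h1 : e w (Sum.inr 1) = a⁻¹ * w (Sum.inr 1) := rfl
  have hl : ∀ i, e w (Sum.inl i) = w (Sum.inl i) := fun i => rfl
  simp only [hl, h0, h1]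
  congr 1
  rw [← ht]
  field_simp
  linear_combination (a * a * t * w (Sum.inr 0) * w (Sum.inr 1)) * htwo

/-- Elements of the isometry group from coordinates. -/
theorem real_to_iso {a b : F} (hab : ∀ z₁ z₂ : F, z₁ ^ 2 + a * z₁ * z₂ + b * z₂ ^ 2 = 0 → z₁ = 0 ∧ z₂ = 0) {o p : ℕ} {c : Prop}
    (h : Real F 4 (-(Fintype.card F : ℤ) ^ 4) o p c) :
    ∃ g : ↥(isometryGroup F (⇑(minusQ 3 F a b))),
      orderOf g = o ∧ finrank F (fixS (Mat (minusQ 3 F a b) g)) % 2 = p % 2 ∧
      (c → ∃ v, ∑ i ∈ Finset.range o, ((Mat (minusQ 3 F a b) g) ^ i) v ≠ 0) := by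
  classical
  obtain ⟨Q, T, hAB⟩ := h
  have hq : (1 : ℤ) < Fintype.card F := by exact_mod_cast (Fintype.one_lt_card : 1 < Fintype.card F)
  have hnd : (polarBilin Q).Nondegenerate := by
    refine ⟨fun x hx => hAB.nd x hx, fun y hy => hAB.nd y fun x => ?_⟩
    have := hy x
    rw [polarBilin_apply_apply] at this
    rw [polar_comm]
    exact this
  rcases exists_isometry_plus_or_minus (m := 4) (by norm_num) hAB.dim Q hnd with ⟨e, he⟩ | ⟨ζ, hζ, e, he⟩
  · exfalso
    have h1 : HasD (quadFormPlus 4 F) (-(Fintype.card F : ℤ) ^ 4) :=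
      HasD.of_equiv e.toEquiv (fun v => he v) hAB.hD
    have h2 := h1.unique (hasD_plus 4)
    have h3 : (0 : ℤ) < (Fintype.card F : ℤ) ^ 4 := by positivity
    linarith
  · obtain ⟨e₁, he₁⟩ := exists_minus_equiv (m := 3) hab hζ
    let E : (Fin (2 * 4) → F) ≃ₗ[F] ((Fin 3 ⊕ Fin 3) ⊕ Fin 2 → F) := e.trans e₁
    have hE : ∀ v, minusQ 3 F a b (E v) = Q v := by
      intro v
      have h1 : minusQ 3 F a b (E v) = quadFormMinus 3 F 1 ζ (e v) := he₁ (e v)
      rw [h1]
      exact he v
    have hAB' := hAB.transport E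
    have hQe : Q.comp (E.symm : _ →ₗ[F] _) = minusQ 3 F a b := by
      ext w
      have h1 := hE (E.symm w)
      simp only [LinearEquiv.apply_symm_apply] at h1
      rw [QuadraticMap.comp_apply]
      exact h1.symm
    rw [hQe] at hAB'
    have hTo : (cj E T) ^ o = 1 := (hAB'.ord o).2 dvd_rfl
    obtain ⟨g, hg⟩ := exists_iso (minusQ 3 F a b) (cj E T) hAB'.iso hAB'.pos hTo
    refine ⟨g, ?_, ?_, ?_⟩
    · apply Cfsg.Agent.Lib.Classical.Symp.OrdModels.order_eq_of_iff
      intro t
      rw [← Mat_pow_eq_one_iff, hg, hAB'.ord]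
    · rw [hg]
      exact hAB'.par
    · intro hc
      rw [hg]
      exact hAB'.dbl hc

/-- Elements of the isometry group from coordinates, for the statement's form. -/
theorem real_to_order {a b : F} (hab : ∀ z₁ z₂ : F, z₁ ^ 2 + a * z₁ * z₂ + b * z₂ ^ 2 = 0 → z₁ = 0 ∧ z₂ = 0) {o p : ℕ} {c : Prop}
    (h : Real F 4 (-(Fintype.card F : ℤ) ^ 4) o p c) :
    ∃ g : ↥(isometryGroup F (quadFormMinus 3 F a b)), orderOf g = o := by
  obtain ⟨g, hg, -⟩ := real_to_iso hab h
  exact ⟨g, hg⟩

end Cfsg.Agent.Lib.SpEight
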